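import Cfsg.Agent.H37.ReeSq.Unip
import Cfsg.Agent.H36.Fixed

/-!
Centralisers of elements of order six and nine, the class of involutions.
-/
set_option autoImplicit false
set_option linter.style.haveILetI false
set_option maxRecDepth 100000

namespace Cfsg.Agent.H37.ReeSq

open Cfsg.Lie Cfsg.Agent.H38.Ree Cfsg.Agent.H37.Twist

variable {K : Type*} [Field K] [Fintype K] (P : Par K)
include P

theorem comm_uT {v w : K × K × K} {y : Kˣ}
    (h : P.uT w * P.ft y * P.uT v = P.uT v * (P.uT w * P.ft y)) :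
    P.uT w * P.uT ((P.χ 6 y : K) * v.1, (P.χ 8 y : K) * v.2.1, (P.χ 9 y : K) * v.2.2)
      = P.uT v * P.uT w := by
  rw [← ft_conj_uT]
  calc P.uT w * (P.ft y * P.uT v * (P.ft y)⁻¹) = P.uT w * P.ft y * P.uT v * (P.ft y)⁻¹ := by group
    _ = _ := by rw [h]; group

theorem card_cent_nine (v : K × K × K) (hv : v.1 ≠ 0) :
    Nat.card ↥(Subgroup.centralizer {P.uT v}) ≤ 3 * Nat.card K := by
  classical
  haveI : Finite ↥(twistedG2 K P.e) := Subtype.finite
  obtain ⟨a, c, d⟩ := v
  set b := P.th a with hb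
  have hb0 : b ≠ 0 := pow_ne_zero _ hv
  let f : K × K → ↥(twistedG2 K P.e) := fun p =>
    P.uT (p.1 * a, (-a * P.th (p.1 * a) ^ 2 + a * b * P.th (p.1 * a) + p.1 * a * b ^ 2
      + P.th (p.1 * a) * c - p.1 * a * b * P.th (p.1 * a)) / b, p.2)
  have hsub : (Subgroup.centralizer {P.uT (a, c, d)} : Set ↥(twistedG2 K P.e)) ⊆
      f '' (({0, 1, -1} : Set K) ×ˢ Set.univ) := by
    intro h hh
    have hc := Subgroup.mem_centralizer_singleton_iff.1 hh
    have hz : P.uT (a, c, d) ^ 3 ≠ 1 := fun e => hv (P.uT_cube_eq_one.1 e)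
    have hB : h ∈ P.BT := P.mem_BT_of_conj (x := P.uT (a, c, d) ^ 3)
      (pow_mem (P.uT_mem _) 3) hz (by
        rw [((Commute.pow_right hc 3).eq : h * _ = _), mul_inv_cancel_right]
        exact pow_mem (P.uT_mem _) 3)
    obtain ⟨u, hu, y, rfl⟩ := P.BT_form.1 hB
    obtain ⟨⟨a', c', d'⟩, rfl⟩ := P.exists_uT hu
    have e := comm_uT P hc
    rw [uT_mul, uT_mul, P.uT_injective.eq_iff] at e
    simp only [Prod.mk.injEq] at e
    obtain ⟨e1, e2, e3⟩ := e
    have hy : y = 1 := P.χ6_eq_one (Units.ext (mul_right_cancel₀ hv (by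
      rw [Units.val_one, one_mul]; linear_combination e1)))
    subst hy
    have hχ : ∀ r, P.χ r (1 : Kˣ) = 1 := fun r => by simp [Par.χ]
    simp only [hχ, Units.val_one, one_mul] at e2 e3
    set r := a' / a with hr
    have hra : r * a = a' := div_mul_cancel₀ _ hv
    have h2 : a * P.th a' = a' * b := by linear_combination -e2
    have hth : P.th r = r := by
      have h' : P.th (r * a) = P.th r * b := mul_pow r a P.e
      rw [hra] at h'
      refine mul_right_cancel₀ (mul_ne_zero hb0 hv) ?_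
      linear_combination h2 - a * h' - b * hra
    have hr3 : r * (r ^ 2 - 1) = 0 := by
      have h' := P.ti_th r
      rw [hth] at h'
      have h'' : P.ti r = P.th r ^ 3 := by
        simp only [Par.ti, Par.th, ← pow_mul, mul_comm]
      rw [h'', hth] at h'
      linear_combination h'
    refine ⟨(r, d'), ⟨?_, trivial⟩, ?_⟩
    · rcases mul_eq_zero.1 hr3 with h | h
      · exact Or.inl h
      · rcases sq_eq_one_iff.1 (sub_eq_zero.1 h) with h | h
        · exact Or.inr (Or.inl h)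
        · exact Or.inr (Or.inr h)
    · rw [map_one, mul_one]
      show P.uT _ = P.uT _
      rw [hra]
      refine congrArg P.uT (Prod.ext rfl (Prod.ext ?_ rfl))
      show _ / b = c'
      rw [div_eq_iff hb0]
      linear_combination e3
  have h := Set.ncard_le_ncard hsub
  rw [← Nat.card_coe_set_eq] at h
  refine h.trans ((Set.ncard_image_le (Set.toFinite _)).trans ?_)
  rw [Set.ncard_prod, Set.ncard_univ]
  refine Nat.mul_le_mul_right _ ?_
  exact (Set.ncard_insert_le _ _).trans (Nat.add_le_add_right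
    ((Set.ncard_insert_le _ _).trans (by rw [Set.ncard_singleton])) 1)

theorem card_cent_six (v : K × K × K) (hv : v.2.1 ≠ v.1 * P.th v.1) :
    Nat.card ↥(Subgroup.centralizer {P.uT v * P.ft (-1)}) ≤ 3 * Nat.card K := by
  classical
  haveI : Finite ↥(twistedG2 K P.e) := Subtype.finite
  obtain ⟨a, c, d⟩ := v
  set b := P.th a with hb
  set g := P.uT (a, c, d) * P.ft (-1) with hgdef
  have h6 : ((P.χ 6 (-1) : Kˣ) : K) = -1 := by
    rw [P.χ6, P.odd.neg_one_pow]; simp [Odd.neg_one_pow (show Odd 3 by decide)]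
  have h8 : ((P.χ 8 (-1) : Kˣ) : K) = 1 := by rw [P.χ8, P.odd.neg_one_pow]; simp
  have h9 : ((P.χ 9 (-1) : Kˣ) : K) = -1 := by rw [P.χ9, P.odd.neg_one_pow]; simp
  set δ := a * b - c with hδ
  have hδ0 : δ ≠ 0 := sub_ne_zero.2 (Ne.symm hv)
  have hg2 : g * g = P.uT (0, δ, b * (c - a * b)) := P.inv_coset_sq (a, c, d)
  let f : Kˣ × K → ↥(twistedG2 K P.e) := fun p =>
    P.uT (-(a * (1 - (P.χ 6 p.1 : K))), p.2,
      -((d + (-(a * (1 - (P.χ 6 p.1 : K)))) * b ^ 2
        - P.th (a * (1 - (P.χ 6 p.1 : K))) * (c - a * (1 - (P.χ 6 p.1 : K)) * b))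
      - (-((P.χ 6 p.1 : K) * a) * P.th (a * (1 - (P.χ 6 p.1 : K))) ^ 2
        - P.th ((P.χ 6 p.1 : K) * a) * (p.2 + (P.χ 6 p.1 : K) * a * P.th (a * (1 - (P.χ 6 p.1 : K))))
        + (P.χ 9 p.1 : K) * d))) * P.ft p.1
  have hsub : (Subgroup.centralizer {g} : Set ↥(twistedG2 K P.e)) ⊆
      f '' (({1, -1} : Set Kˣ) ×ˢ Set.univ) := by
    intro h hh
    have hc : h * g = g * h := Subgroup.mem_centralizer_singleton_iff.1 hh
    have hc2 : h * (g * g) = g * g * h := (Commute.mul_right hc hc).eq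
    have hne : g * g ≠ 1 := fun e => hδ0 (by
      rw [hg2, ← P.uT_one, P.uT_injective.eq_iff] at e
      exact congrArg (fun z : K × K × K => z.2.1) e)
    have hB : h ∈ P.BT := P.mem_BT_of_conj (x := g * g) (hg2 ▸ P.uT_mem _) hne (by
      rw [hc2, mul_inv_cancel_right]; exact hg2 ▸ P.uT_mem _)
    obtain ⟨u, hu, y, rfl⟩ := P.BT_form.1 hB
    obtain ⟨⟨a', c', d'⟩, rfl⟩ := P.exists_uT hu
    rw [hg2] at hc2
    have e := comm_uT P hc2
    rw [uT_mul, uT_mul, P.uT_injective.eq_iff] at e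
    simp only [Prod.mk.injEq] at e
    obtain ⟨-, e2, -⟩ := e
    have h0 : P.th (0 : K) = 0 := P.th_zero
    simp only [mul_zero, zero_mul, sub_zero, h0] at e2
    have hy2 : y ^ 2 = 1 := P.χ8_sq (Units.ext (mul_right_cancel₀ hδ0 (by
      rw [Units.val_one, one_mul]; linear_combination e2)))
    have hy : y = 1 ∨ y = -1 :=
      (sq_eq_one_iff.1 (show (y : K) ^ 2 = 1 from congrArg Units.val hy2)).imp
        (fun e => Units.ext e) (fun e => Units.ext e)
    have key : P.uT (a', c', d') * P.uT ((P.χ 6 y : K) * a, (P.χ 8 y : K) * c, (P.χ 9 y : K) * d)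
        = P.uT (a, c, d) * P.uT (-a', c', -d') := by
      have hcomm : P.ft y * P.ft (-1) = P.ft (-1) * P.ft y := by
        rw [← map_mul, ← map_mul, mul_comm]
      have e1 := ft_conj_uT P y (a, c, d)
      have e2 := ft_conj_uT P (-1) (a', c', d')
      rw [h6, h8, h9, neg_one_mul, one_mul, neg_one_mul] at e2
      rw [← e1, ← e2]
      calc P.uT (a', c', d') * (P.ft y * P.uT (a, c, d) * (P.ft y)⁻¹)
          = P.uT (a', c', d') * P.ft y * g * ((P.ft y) * P.ft (-1))⁻¹ := by rw [hgdef]; group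
        _ = _ := by rw [hc, hcomm, hgdef]; group
    rw [uT_mul, uT_mul, P.uT_injective.eq_iff] at key
    simp only [Prod.mk.injEq] at key
    obtain ⟨k1, -, k3⟩ := key
    have ha' : a' = -(a * (1 - (P.χ 6 y : K))) := by
      linear_combination -k1 + a' * P.three_eq
    refine ⟨(y, c'), ⟨hy, trivial⟩, ?_⟩
    show P.uT _ * P.ft y = _
    congr 2
    refine Prod.ext ha'.symm (Prod.ext rfl ?_)
    rw [ha', P.th_neg, P.th_neg, P.th_neg] at k3
    simp only [neg_neg] at k3
    show -(_ - _) = d'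
    linear_combination k3 - d' * P.three_eq
  have h := Set.ncard_le_ncard hsub
  rw [← Nat.card_coe_set_eq] at h
  refine h.trans ((Set.ncard_image_le (Set.toFinite _)).trans ?_)
  rw [Set.ncard_prod, Set.ncard_univ]
  refine Nat.mul_le_mul_right _ ?_
  exact ((Set.ncard_insert_le _ _).trans (by rw [Set.ncard_singleton])).trans (by norm_num)

theorem card_cent_six_nine {g : ↥(twistedG2 K P.e)} (h : orderOf g = 6 ∨ orderOf g = 9) :
    Nat.card ↥(Subgroup.centralizer {g}) ≤ 3 * Nat.card K := by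
  have h3 : 3 ∣ orderOf g := by rcases h with h | h <;> rw [h] <;> norm_num
  obtain ⟨a, ha⟩ := P.exists_three_conj h3
  have e : a⁻¹ * g * a = a⁻¹ * g * a⁻¹⁻¹ := by rw [inv_inv]
  rw [← card_cent_conj P a⁻¹ g, ← e]
  have ho : orderOf (a⁻¹ * g * a) = orderOf g := by rw [e, orderOf_conj_eq]
  obtain ⟨v, ⟨ev, ⟨-, -, h'⟩ | ⟨hv, -⟩⟩ | ⟨ev, hv, -⟩⟩ := P.BT_shapes ha (ho.symm ▸ h3)
  · omega
  · exact ev ▸ card_cent_nine P v hv
  · exact ev ▸ card_cent_six P v hv

theorem orderOf_aT : orderOf (P.ft (-1)) = 2 := by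
  haveI : Fact (Nat.Prime 2) := ⟨Nat.prime_two⟩
  rw [orderOf_injective P.ft P.ft_injective]
  exact orderOf_eq_prime (by rw [neg_one_sq]) P.neg_one_ne

theorem isConj_invol (hq : 4 < Nat.card K) {g : ↥(twistedG2 K P.e)} :
    IsConj (P.ft (-1)) g ↔ orderOf g = 2 := by
  constructor
  · intro h
    obtain ⟨u, rfl⟩ := isConj_iff.1 h
    rw [orderOf_conj_eq, orderOf_aT]
  · intro h
    obtain ⟨u, hu⟩ := P.invol_conj hq (u := g) (by rw [← pow_two, ← h, pow_orderOf_eq_one])
      (fun e => by rw [e, orderOf_one] at h; omega)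
    obtain ⟨w, hw⟩ := P.invol_conj hq (u := P.ft (-1))
      (by rw [← map_mul, neg_one_mul, neg_neg, map_one])
      (fun e => P.neg_one_ne (P.ft_injective (e.trans (map_one _).symm)))
    exact isConj_iff.2 ⟨u * w⁻¹, by rw [← hu, ← hw]; group⟩

theorem invol_counts (hq : 4 < Nat.card K) :
    Nat.card {g // IsConj (P.ft (-1)) g} = Nat.card K ^ 2 * P.NN ∧
    Nat.card {g // IsConj (P.ft (-1)) g ∧ g ∈ P.BT} = Nat.card K ^ 2 ∧
    Nat.card (MulAction.fixedBy (↥(twistedG2 K P.e) ⧸ P.BT) (P.ft (-1))) = Nat.card K + 1 := by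
  classical
  haveI : Finite ↥(twistedG2 K P.e) := Subtype.finite
  have h1 : Nat.card {g // IsConj (P.ft (-1)) g} = Nat.card K ^ 2 * P.NN := by
    rw [← P.count_invol hq, ← Nat.card_coe_set_eq]
    exact Nat.card_congr (Equiv.subtypeEquivRight fun g => isConj_invol P hq)
  have h2 : Nat.card {g // IsConj (P.ft (-1)) g ∧ g ∈ P.BT} = Nat.card K ^ 2 := by
    let f : K × K → {g // IsConj (P.ft (-1)) g ∧ g ∈ P.BT} := fun p =>
      ⟨P.uT (p.1, p.1 * P.th p.1, p.2) * P.ft (-1),
        (isConj_invol P hq).2 (P.order_inv_coset.1 rfl),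
        mul_mem (P.UT_le_BT (P.uT_mem _)) (P.ft_mem_BT _)⟩
    rw [← Nat.card_eq_of_bijective f ⟨?_, ?_⟩, Nat.card_prod, pow_two]
    · intro p p' e
      have h := P.uT_injective (mul_right_cancel (congrArg Subtype.val e))
      exact Prod.ext (congrArg (fun z : K × K × K => z.1) h)
        (congrArg (fun z : K × K × K => z.2.2) h)
    · rintro ⟨g, hg, hB⟩
      rw [isConj_invol P hq] at hg
      obtain ⟨u, hu, y, rfl⟩ := P.BT_form.1 hB
      obtain ⟨⟨a, c, d⟩, rfl⟩ := P.exists_uT hu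
      have hy : y ^ 2 = 1 := by
        by_contra hy
        obtain ⟨w, -, hw⟩ := P.conj_of_regular hy (P.uT_mem (a, c, d))
        rw [← hw, orderOf_conj_eq, orderOf_injective P.ft P.ft_injective] at hg
        exact hy (by rw [← hg, pow_orderOf_eq_one])
      rcases (sq_eq_one_iff.1 (show (y : K) ^ 2 = 1 from congrArg Units.val hy)) with e | e
      · obtain rfl : y = 1 := Units.ext e
        rw [map_one, mul_one] at hg
        obtain ⟨N, -, eN⟩ := P.card_pow_three
        have h := orderOf_dvd_of_pow_eq_one (P.UT_pow (P.uT_mem (a, c, d)))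
        rw [hg, eN, ← pow_mul] at h
        have := Nat.prime_two.dvd_of_dvd_pow h
        norm_num at this
      · obtain rfl : y = -1 := Units.ext (by rw [e, Units.val_neg, Units.val_one])
        have hc : c = a * P.th a := by
          by_contra hc
          have := (P.order_inv_coset (v := (a, c, d))).2 hc
          omega
        subst hc
        exact ⟨(a, d), rfl⟩
  refine ⟨h1, h2, ?_⟩
  have h := H36.card_fixedBy_mul_card_class P.BT (P.ft (-1))
  rw [h1, h2, P.index_BT] at h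
  have hN := P.NN_eq
  have hpos : 0 < Nat.card K ^ 2 * P.NN := Nat.mul_pos (pow_pos Nat.card_pos 2) (by
    have h27 := P.q_ge hq; nlinarith)
  refine Nat.eq_of_mul_eq_mul_right hpos (h.trans ?_)
  have e : (Nat.card K + 1) * P.NN = Nat.card K ^ 3 + 1 := by
    have h2 : (Nat.card K + 1) * P.NN + (Nat.card K + 1) * Nat.card K
        = (Nat.card K + 1) * (Nat.card K ^ 2 + 1) := by rw [← mul_add, hN]
    nlinarith
  rw [← e]; ring

end Cfsg.Agent.H37.ReeSq
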