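import Cfsg.Agent.H37.ReeSq.Trace

/-!
The trace separates the classes of semisimple elements of order above two.
-/
set_option autoImplicit false
set_option linter.style.haveILetI false
set_option maxRecDepth 100000

namespace Cfsg.Agent.H37.ReeSq

open Cfsg.Lie Cfsg.Agent.H38.Ree Cfsg.Agent.H37.Twist

/-- Classes meeting a set stable under a subgroup: each is met at least `k` times. -/
theorem mul_card_classes_le {G : Type*} [Group G] [Finite G] (X : Set G) (N : Subgroup G) (k c : ℕ)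
    (hc : 0 < c) (hk : k * c ≤ Nat.card N) (hN : ∀ n ∈ N, ∀ x ∈ X, n * x * n⁻¹ ∈ X)
    (hs : ∀ x ∈ X, Nat.card ↥(Subgroup.centralizer {x}) ≤ c) :
    k * (ConjClasses.mk '' X).ncard ≤ X.ncard := by
  classical
  haveI := Fintype.ofFinite G
  rw [← X.coe_toFinset, ← Finset.coe_image (f := ConjClasses.mk), Set.ncard_coe_finset,
    Set.ncard_coe_finset]
  refine Finset.mul_card_image_le_card _ _ fun a ha => ?_
  obtain ⟨x, hx, rfl⟩ := Finset.mem_image.1 ha
  rw [Set.mem_toFinset] at hx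
  refine le_of_mul_le_mul_right (a := c) ?_ hc
  calc k * c ≤ Nat.card N := hk
    _ = (Finset.univ : Finset ↥N).card := by rw [Nat.card_eq_fintype_card, Finset.card_univ]
    _ ≤ c * _ := by
      refine Finset.card_le_mul_card_image_of_maps_to (f := fun n : ↥N => (n : G) * x * (n : G)⁻¹)
        (fun n _ => ?_) c fun b hb => ?_
      · rw [Finset.mem_filter, Set.mem_toFinset]
        exact ⟨hN _ n.2 x hx, ConjClasses.mk_eq_mk_iff_isConj.2
          (isConj_iff.2 ⟨(n : G)⁻¹, by group⟩)⟩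
      · rcases (Finset.filter (fun n : ↥N => (n : G) * x * (n : G)⁻¹ = b) Finset.univ).eq_empty_or_nonempty
          with h | ⟨n0, hn0⟩
        · rw [h]; exact Nat.zero_le _
        have e0 := (Finset.mem_filter.1 hn0).2
        refine le_trans ?_ (hs x hx)
        rw [Nat.card_eq_fintype_card, ← Finset.card_univ]
        refine Finset.card_le_card_of_injOn (fun n => ?_) (fun n _ => Finset.mem_univ _) ?_
        · exact if h : (n : G) * x * (n : G)⁻¹ = b then ⟨(n0 : G)⁻¹ * n, by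
            rw [Subgroup.mem_centralizer_singleton_iff]
            calc (n0 : G)⁻¹ * n * x = (n0 : G)⁻¹ * ((n : G) * x * (n : G)⁻¹) * n := by group
              _ = x * ((n0 : G)⁻¹ * n) := by rw [h, ← e0]; group⟩ else 1
        · intro n hn n' hn' e
          have h1 := (Finset.mem_filter.1 hn).2
          have h2 := (Finset.mem_filter.1 hn').2
          simp only [dif_pos h1, dif_pos h2] at e
          exact Subtype.ext (mul_left_cancel (congrArg Subtype.val e))
    _ = _ := mul_comm _ _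

variable {K : Type*} [Field K]

/-- The sign. -/
def sg (ε : Bool) : Kˣ := if ε then -1 else 1

variable [Fintype K] (P : Par K)
include P

/-- Regular semisimple: order above two and prime to three. -/
def RSS (g : ↥(twistedG2 K P.e)) : Prop := 2 < orderOf g ∧ ¬ 3 ∣ orderOf g

/-- The normal forms of the elements outside the Borel subgroup. -/
noncomputable def el (ε : Bool) (v : K × K × K) : ↥(twistedG2 K P.e) :=
  P.ft (sg ε) * P.wT * P.uT v

theorem RSS_conj {u g : ↥(twistedG2 K P.e)} (h : RSS P g) : RSS P (u * g * u⁻¹) := by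
  rw [RSS, orderOf_conj_eq]; exact h

theorem tr7_el (ε : Bool) (v : K × K × K) : tr7 P (el P ε v) =
    -1 + (if ε then e61 P v + e43 P v else -(e61 P v + e43 P v)) - e52 P v := by
  obtain ⟨h0, h1⟩ := tr7_big P v
  cases ε
  · rw [el, sg, if_neg (by simp), map_one, one_mul, h0]; simp; ring
  · rw [el, sg, if_pos rfl, h1]; simp; ring

theorem tr7_el_z (ε : Bool) (d : K) :
    tr7 P (el P ε (0, 0, d)) = if ε then -1 - d ^ 2 else -1 + d ^ 2 := by
  rw [tr7_el, e61, e52, e43]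
  have h1 : P.th (0 : K) = 0 := P.th_zero
  have h2 : P.ti (0 : K) = 0 := P.ti_zero
  simp only [h1, h2]
  cases ε <;> simp <;> ring

theorem trace_not_RSS (hq : 4 < Nat.card K) {g : ↥(twistedG2 K P.e)} (h : ¬ RSS P g) :
    tr7 P g = 1 ∨ tr7 P g = -1 := by
  haveI : Finite ↥(twistedG2 K P.e) := Subtype.finite
  by_cases h3 : 3 ∣ orderOf g
  · obtain ⟨a, ha⟩ := P.exists_three_conj h3
    have e : tr7 P g = tr7 P (a⁻¹ * g * a) := by
      conv_rhs => rw [show a⁻¹ * g * a = a⁻¹ * g * a⁻¹⁻¹ by group, tr7_conj]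
    obtain ⟨v, ⟨ev, -⟩ | ⟨ev, -, -⟩⟩ := P.BT_shapes ha (by
      rw [show a⁻¹ * g * a = a⁻¹ * g * a⁻¹⁻¹ by group, orderOf_conj_eq]; exact h3)
    · exact Or.inl (by rw [e, ev, tr7_uT])
    · exact Or.inr (by rw [e, ev, tr7_uT_inv])
  · have h2 : ¬ 2 < orderOf g := fun h2 => h ⟨h2, h3⟩
    by_cases hg : g = 1
    · exact Or.inl (by rw [hg, tr7_one])
    have hg2 : g * g = 1 := by
      have := orderOf_pos g
      have h1 : orderOf g ≠ 1 := fun e => hg (orderOf_eq_one_iff.1 e)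
      rw [← pow_two, ← pow_orderOf_eq_one g]
      congr 1
      omega
    obtain ⟨u, hu⟩ := P.invol_conj hq hg2 hg
    obtain ⟨w, hw⟩ := P.invol_conj hq (u := P.ft (-1))
      (by rw [← map_mul, neg_one_mul, neg_neg, map_one])
      (fun e => P.neg_one_ne (P.ft_injective (e.trans (map_one _).symm)))
    refine Or.inr ?_
    have hv := tr7_uT_inv P (0 : K × K × K)
    rw [P.uT_one, one_mul, ← hw, tr7_conj] at hv
    rw [← hu, tr7_conj, hv]

theorem RSS_of_trace (hq : 4 < Nat.card K) {g : ↥(twistedG2 K P.e)} (h1 : tr7 P g ≠ 1)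
    (h2 : tr7 P g ≠ -1) : RSS P g :=
  by_contra fun h => (trace_not_RSS P hq h).elim h1 h2

/-- The split family. -/
def X1 : Set ↥(twistedG2 K P.e) := P.ft '' {y | y ^ 2 ≠ 1}

/-- The family of the second kind. -/
def X2 : Set ↥(twistedG2 K P.e) := {w | w ∈ P.C2 ∧ 2 < orderOf w}

/-- The family attached to an element of the third kind. -/
def X3 (x : ↥(twistedG2 K P.e)) : Set ↥(twistedG2 K P.e) :=
  (Subgroup.centralizer {x} : Set ↥(twistedG2 K P.e)) \ {1}

theorem cent_X1 {g : ↥(twistedG2 K P.e)} (h : g ∈ X1 P) :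
    Nat.card ↥(Subgroup.centralizer {g}) ≤ Nat.card K - 1 := by
  haveI : Finite ↥(twistedG2 K P.e) := Subtype.finite
  obtain ⟨y, hy, rfl⟩ := h
  refine le_of_le_of_eq (Subgroup.card_le_of_le (K := P.ft.range) fun w hw =>
    P.cent_torus hy (Subgroup.mem_centralizer_singleton_iff.1 hw)) ?_
  rw [← Nat.card_congr (MonoidHom.ofInjective P.ft_injective).toEquiv, P.card_units]

theorem cent_X2 (hq : 4 < Nat.card K) {g : ↥(twistedG2 K P.e)} (h : g ∈ X2 P) :
    Nat.card ↥(Subgroup.centralizer {g}) ≤ Nat.card K + 1 := by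
  haveI : Finite ↥(twistedG2 K P.e) := Subtype.finite
  obtain ⟨h1, h2⟩ := P.C2_regular h.1 h.2
  refine le_of_le_of_eq (Subgroup.card_le_of_le (K := P.C2) fun w hw => ?_) P.card_C2
  rw [← P.centralizer_A2 hq h1 h2, Subgroup.mem_centralizer_singleton_iff]
  exact Commute.pow_right (Subgroup.mem_centralizer_singleton_iff.1 hw) 2

theorem card_cent_conj (u g : ↥(twistedG2 K P.e)) :
    Nat.card ↥(Subgroup.centralizer {u * g * u⁻¹}) = Nat.card ↥(Subgroup.centralizer {g}) := by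
  refine (Nat.card_congr ((MulAut.conj u).toEquiv.subtypeEquiv fun w => ?_)).symm
  show w ∈ Subgroup.centralizer {g} ↔ u * w * u⁻¹ ∈ Subgroup.centralizer {u * g * u⁻¹}
  rw [Subgroup.mem_centralizer_singleton_iff, Subgroup.mem_centralizer_singleton_iff,
    show u * w * u⁻¹ * (u * g * u⁻¹) = u * (w * g) * u⁻¹ by group,
    show u * g * u⁻¹ * (u * w * u⁻¹) = u * (g * w) * u⁻¹ by group, mul_left_inj, mul_right_inj]

theorem RSS_cases (hq : 4 < Nat.card K) {x x' : ↥(twistedG2 K P.e)} (hE : P.E3 = P.fam x ∪ P.fam x')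
    {g : ↥(twistedG2 K P.e)} (h : RSS P g) :
    ∃ u z, (z ∈ X1 P ∨ z ∈ X2 P ∨ z ∈ X3 P x ∨ z ∈ X3 P x') ∧ g = u * z * u⁻¹ := by
  have hg : g ≠ 1 := fun e => by rw [RSS, e, orderOf_one] at h; omega
  rcases P.classify hq hg with h' | h' | h' | h' | h'
  · exact absurd h' h.2
  · obtain ⟨a, y, rfl⟩ := P.exists_conj_ft h'.1 h'.2
    refine ⟨a, _, Or.inl ⟨y, fun e => ?_, rfl⟩, rfl⟩
    have := Nat.le_of_dvd two_pos (orderOf_dvd_of_pow_eq_one e)
    have h1 := h.1
    rw [orderOf_conj_eq, orderOf_injective P.ft P.ft_injective] at h1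
    omega
  · obtain ⟨a, ha⟩ := P.exists_conj_C2 hq h'.1 h'.2
    exact ⟨a⁻¹, _, Or.inr (Or.inl ⟨ha, by rw [orderOf_conj_eq]; exact h.1⟩), by group⟩
  · exact absurd h' (by have := h.1; omega)
  · rw [hE] at h'
    rcases h' with ⟨a, z, hz, rfl⟩ | ⟨a, z, hz, rfl⟩
    · exact ⟨a, z, Or.inr (Or.inr (Or.inl hz)), rfl⟩
    · exact ⟨a, z, Or.inr (Or.inr (Or.inr hz)), rfl⟩

theorem card_cent_RSS (hq : 4 < Nat.card K) {g : ↥(twistedG2 K P.e)} (h : RSS P g) :
    Nat.card ↥(Subgroup.centralizer {g}) ≤ Nat.card K + 3 * P.e + 1 := by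
  obtain ⟨x, x', hx, hx', hc, hc', -, hE, -, -⟩ := P.third_pair hq
  obtain ⟨u, z, hz, rfl⟩ := RSS_cases P hq hE h
  rw [card_cent_conj]
  rcases hz with hz | hz | hz | hz
  · have := cent_X1 P hz; omega
  · have := cent_X2 P hq hz; omega
  · rw [(P.E3_eq hq hx hz.1 hz.2).2, hc]; omega
  · rw [(P.E3_eq hq hx' hz.1 hz.2).2, hc']

theorem card_classes (hq : 4 < Nat.card K) :
    (ConjClasses.mk '' {g | RSS P g}).ncard ≤ Nat.card K - 2 := by
  classical
  haveI : Finite ↥(twistedG2 K P.e) := Subtype.finite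
  obtain ⟨x, x', hx, hx', hc, hc', -, hE, hn, hn'⟩ := P.third_pair hq
  have hsub : ConjClasses.mk '' {g | RSS P g} ⊆ ConjClasses.mk '' X1 P ∪ (ConjClasses.mk '' X2 P ∪
      (ConjClasses.mk '' X3 P x ∪ ConjClasses.mk '' X3 P x')) := by
    rintro _ ⟨g, hg, rfl⟩
    obtain ⟨u, z, hz, rfl⟩ := RSS_cases P hq hE hg
    have e : ConjClasses.mk (u * z * u⁻¹) = ConjClasses.mk z :=
      ConjClasses.mk_eq_mk_iff_isConj.2 (isConj_iff.2 ⟨u⁻¹, by group⟩)
    rw [e]
    rcases hz with hz | hz | hz | hz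
    · exact Or.inl ⟨z, hz, rfl⟩
    · exact Or.inr (Or.inl ⟨z, hz, rfl⟩)
    · exact Or.inr (Or.inr (Or.inl ⟨z, hz, rfl⟩))
    · exact Or.inr (Or.inr (Or.inr ⟨z, hz, rfl⟩))
  refine (Set.ncard_le_ncard hsub).trans ?_
  refine (Set.ncard_union_le _ _).trans ?_
  refine (Nat.add_le_add le_rfl (Set.ncard_union_le _ _)).trans ?_
  refine (Nat.add_le_add le_rfl (Nat.add_le_add le_rfl (Set.ncard_union_le _ _))).trans ?_
  -- the split family
  have hX1 : (X1 P).ncard = Nat.card K - 3 := by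
    rw [X1, Set.ncard_image_of_injective _ P.ft_injective,
      show {y : Kˣ | y ^ 2 ≠ 1} = ({1, -1} : Set Kˣ)ᶜ by
        ext y
        refine not_congr ⟨fun h => (sq_eq_one_iff.1 (show (y : K) ^ 2 = 1 from
          congrArg Units.val h)).imp (fun e => Units.ext e) (fun e => Units.ext e), ?_⟩
        rintro (rfl | rfl)
        · exact one_pow 2
        · exact neg_one_sq,
      Set.ncard_compl, Set.ncard_pair P.neg_one_ne.symm, P.card_units, Nat.sub_sub]
  have h1 := mul_card_classes_le (X1 P) (Subgroup.normalizer (P.A1 : Set ↥(twistedG2 K P.e))) 2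
    (Nat.card K - 1) (by omega) (by rw [P.card_normalizer_A1 hq]) (fun n hn z hz => by
      obtain ⟨y, hy, rfl⟩ := hz
      obtain ⟨y', e⟩ := P.ft_X_stable n hq hn y
      refine ⟨y', fun h => hy (P.ft_injective ?_), e.symm⟩
      have h2 : (n * P.ft y * n⁻¹) ^ 2 = 1 := by rw [e, ← map_pow, h, map_one]
      rw [conj_pow, mul_inv_eq_one, mul_eq_left] at h2
      rw [map_pow, h2, map_one]) fun z hz => cent_X1 P hz
  -- the second family
  have hX2 : (X2 P).ncard = Nat.card K - 3 := by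
    have e : X2 P = (P.C2 : Set ↥(twistedG2 K P.e)) \ {w | w ∈ P.C2 ∧ ¬ 2 < orderOf w} := by
      ext w
      simp only [X2, Set.mem_setOf_eq, Set.mem_sdiff, SetLike.mem_coe]
      tauto
    rw [e, Set.ncard_sdiff (fun w hw => hw.1), P.card_VT, ← Nat.card_coe_set_eq]
    show Nat.card ↥P.C2 - 4 = _
    rw [P.card_C2]
    omega
  have h2 := mul_card_classes_le (X2 P) (Subgroup.normalizer (P.A2 : Set ↥(twistedG2 K P.e))) 6
    (Nat.card K + 1) (by omega) (by rw [P.card_normalizer_A2 hq]) (fun n hn z hz =>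
      ⟨P.normalizer_conj_C2 hq le_rfl (P.A2_ne_bot hq) hn hz.1, by
        rw [orderOf_conj_eq]; exact hz.2⟩) fun z hz => cent_X2 P hq hz
  have key : ∀ w : ↥(twistedG2 K P.e), w ∈ P.E3 →
      Nat.card ↥(Subgroup.normalizer ((Subgroup.centralizer {w} : Subgroup ↥(twistedG2 K P.e)) :
        Set ↥(twistedG2 K P.e))) = 6 * Nat.card ↥(Subgroup.centralizer {w}) →
      6 * (ConjClasses.mk '' X3 P w).ncard ≤ Nat.card ↥(Subgroup.centralizer {w}) - 1 := by
    intro w hw hnw
    refine (mul_card_classes_le (X3 P w) _ 6 _ Nat.card_pos hnw.ge ?_ ?_).trans ?_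
    · exact fun n hn z hz => ⟨(Subgroup.mem_normalizer_iff.1 hn z).1 hz.1,
        fun h => hz.2 (by rwa [Set.mem_singleton_iff, mul_inv_eq_one, mul_eq_left] at h)⟩
    · intro z hz
      rw [(P.E3_eq hq hw hz.1 hz.2).2]
    · rw [X3, Set.ncard_sdiff_singleton_of_mem (one_mem (Subgroup.centralizer {w})),
        ← Nat.card_coe_set_eq]
      rfl
  have h3 := key x hx hn
  have h4 := key x' hx' hn'
  have h27 := P.q_ge hq
  have hle : 3 * P.e ≤ Nat.card K := by
    rw [P.card_nat]; exact Nat.mul_le_mul_left 3 (Nat.le_self_pow two_ne_zero _)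
  omega

theorem neg_one_ne_one : (-1 : K) ≠ 1 := P.one_ne_neg

theorem card_good : (({1, -1} : Set K)ᶜ).ncard = Nat.card K - 2 := by
  rw [Set.ncard_compl, Set.ncard_pair P.one_ne_neg.symm]

theorem exists_el (k : K) (hk1 : k ≠ -1) :
    ∃ ε, ∃ d : K, tr7 P (el P ε (0, 0, d)) = k := by
  have h : k + 1 ≠ 0 := fun h => hk1 (by linear_combination h)
  obtain ⟨z, hz | hz⟩ := P.units_dichotomy (Units.mk0 _ h)
  · refine ⟨false, z, ?_⟩
    have := congrArg Units.val hz
    rw [Units.val_mk0, Units.val_pow_eq_pow_val] at this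
    rw [tr7_el_z]; simp only [Bool.false_eq_true, if_false]
    linear_combination -this
  · refine ⟨true, z, ?_⟩
    have := congrArg Units.val hz
    rw [Units.val_mk0, Units.val_neg, Units.val_pow_eq_pow_val] at this
    rw [tr7_el_z]; simp only [if_true]
    linear_combination -this

/-- The trace determines the class of a regular semisimple element and avoids `±1`. -/
theorem trace_spec (hq : 4 < Nat.card K) :
    (∀ g, RSS P g → tr7 P g ≠ 1 ∧ tr7 P g ≠ -1) ∧
      ∀ g h, RSS P g → RSS P h → tr7 P g = tr7 P h → IsConj g h := by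
  classical
  haveI : Finite ↥(twistedG2 K P.e) := Subtype.finite
  set 𝒦 := ConjClasses.mk '' {g : ↥(twistedG2 K P.e) | RSS P g}
  let τ : ConjClasses ↥(twistedG2 K P.e) → K := Quotient.lift (tr7 P) fun a b hab => by
    obtain ⟨u, hu⟩ := isConj_iff.1 hab
    rw [← hu, tr7_conj]
  have hsub : ({1, -1} : Set K)ᶜ ⊆ τ '' 𝒦 := by
    intro k hk
    simp only [Set.mem_compl_iff, Set.mem_insert_iff, Set.mem_singleton_iff, not_or] at hk
    obtain ⟨ε, d, e⟩ := exists_el P k hk.2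
    exact ⟨_, ⟨_, RSS_of_trace P hq (e.symm ▸ hk.1) (e.symm ▸ hk.2), rfl⟩, e⟩
  have hle : (τ '' 𝒦).ncard ≤ 𝒦.ncard := Set.ncard_image_le
  have hK : 𝒦.ncard ≤ Nat.card K - 2 := card_classes P hq
  have hG := card_good P
  have heq : ({1, -1} : Set K)ᶜ = τ '' 𝒦 :=
    Set.eq_of_subset_of_ncard_le hsub (by omega)
  have hinj : Set.InjOn τ 𝒦 := Set.injOn_of_ncard_image_eq (by rw [← heq]; rw [← heq] at hle; omega)
  refine ⟨fun g hg => ?_, fun g h hg hh e => ?_⟩
  · have : tr7 P g ∈ ({1, -1} : Set K)ᶜ := heq ▸ ⟨_, ⟨g, hg, rfl⟩, rfl⟩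
    simpa using this
  · exact ConjClasses.mk_eq_mk_iff_isConj.1 (hinj ⟨g, hg, rfl⟩ ⟨h, hh, rfl⟩ e)

theorem isConj_of_trace (hq : 4 < Nat.card K) {g h : ↥(twistedG2 K P.e)} (hg : RSS P g)
    (e : tr7 P h = tr7 P g) : IsConj g h := by
  obtain ⟨h1, h2⟩ := (trace_spec P hq).1 g hg
  exact (trace_spec P hq).2 g h hg (RSS_of_trace P hq (e ▸ h1) (e ▸ h2)) e.symm

theorem exists_conj_el (hq : 4 < Nat.card K) {g : ↥(twistedG2 K P.e)} (hg : RSS P g) :
    ∃ ε, ∃ d : K, d ≠ 0 ∧ IsConj g (el P ε (0, 0, d)) := by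
  obtain ⟨-, h2⟩ := (trace_spec P hq).1 g hg
  obtain ⟨ε, d, e⟩ := exists_el P _ h2
  refine ⟨ε, d, fun hd => h2 ?_, isConj_of_trace P hq hg e⟩
  rw [← e, hd, tr7_el_z]
  cases ε <;> simp

end Cfsg.Agent.H37.ReeSq
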