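import Cfsg.Agent.H38.Ree.Tori
import Cfsg.Agent.H33.PermCharacter
import Cfsg.Agent.CharInduce.Induce
import Cfsg.Agent.CharBasic.Kernel
import Cfsg.Agent.H26.DefectZero
import Cfsg.Agent.H36.Fixed

/-!
`²G₂(q)`: the Steinberg character is the only irreducible character of three-defect zero.
-/
set_option autoImplicit false
set_option linter.style.haveILetI false
set_option linter.unusedSectionVars false
set_option maxRecDepth 100000

open scoped ComplexConjugate

namespace Cfsg.Agent.H37.ReeSq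

open Cfsg Cfsg.Lie Cfsg.Agent Cfsg.Agent.H38.Ree Cfsg.Agent.H37.Twist Cfsg.Agent.CharInduce

variable {K : Type*} [Field K] [Fintype K] (P : Par K)
include P

/-- The coordinate on the torus of an element of the Borel subgroup. -/
noncomputable def piB : ↥P.BT →* Kˣ :=
  MonoidHom.mk' (fun g => (P.BT_form.1 g.2).choose_spec.2.choose) fun g g' => by
    obtain ⟨hu, e⟩ := (P.BT_form.1 g.2).choose_spec.1, (P.BT_form.1 g.2).choose_spec.2.choose_spec
    obtain ⟨hu', e'⟩ := (P.BT_form.1 g'.2).choose_spec.1,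
      (P.BT_form.1 g'.2).choose_spec.2.choose_spec
    set u := (P.BT_form.1 g.2).choose
    set u' := (P.BT_form.1 g'.2).choose
    set y := (P.BT_form.1 g.2).choose_spec.2.choose
    set y' := (P.BT_form.1 g'.2).choose_spec.2.choose
    obtain ⟨hv, ev⟩ := (P.BT_form.1 (g * g').2).choose_spec.1,
      (P.BT_form.1 (g * g').2).choose_spec.2.choose_spec
    refine (P.BT_unique hv (mul_mem hu (P.ft_conj_UT y hu')) ?_).2
    have e2 : (g : ↥(twistedG2 K P.e)) = u * P.ft y := e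
    have e2' : (g' : ↥(twistedG2 K P.e)) = u' * P.ft y' := e'
    rw [← ev, Subgroup.coe_mul, map_mul, e2, e2']
    group

theorem piB_eq {g : ↥P.BT} {u : ↥(twistedG2 K P.e)} {y : Kˣ} (hu : u ∈ P.UT)
    (e : (g : ↥(twistedG2 K P.e)) = u * P.ft y) : piB P g = y :=
  (P.BT_unique (P.BT_form.1 g.2).choose_spec.1 hu
    ((P.BT_form.1 g.2).choose_spec.2.choose_spec.symm.trans e)).2

theorem piB_eq_one {g : ↥P.BT} : piB P g = 1 ↔ (g : ↥(twistedG2 K P.e)) ∈ P.UT := by
  obtain ⟨u, hu, y, e⟩ := P.BT_form.1 g.2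
  rw [piB_eq P hu e, e]
  constructor
  · rintro rfl; rwa [map_one, mul_one]
  · intro h
    exact (P.BT_unique (y' := 1) hu h (by rw [map_one, mul_one])).2

theorem transitive_pair (hb : ↥(twistedG2 K P.e) ⧸ P.BT)
    (h : hb ≠ ((1 : ↥(twistedG2 K P.e)) : ↥(twistedG2 K P.e) ⧸ P.BT)) :
    ∃ u : ↥(MulAction.stabilizer ↥(twistedG2 K P.e)
      ((1 : ↥(twistedG2 K P.e)) : ↥(twistedG2 K P.e) ⧸ P.BT)),
      u • (P.nT : ↥(twistedG2 K P.e) ⧸ P.BT) = hb := by
  induction hb using QuotientGroup.induction_on with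
  | _ g =>
    obtain ⟨u, hu, e⟩ := P.coset_form (g := g) fun hg => h (QuotientGroup.eq.2 (by
      rw [mul_one]; exact inv_mem hg))
    exact ⟨⟨u, (P.stab_coset _ _).2 (by
      rw [inv_one, one_mul, mul_one]; exact P.UT_le_BT (P.mem_UT.2 hu))⟩, e.symm⟩

variable [Fintype ↥(twistedG2 K P.e)] [Fintype (↥(twistedG2 K P.e) ⧸ P.BT)]

/-- The Steinberg character. -/
noncomputable def St : ↥(twistedG2 K P.e) → ℂ := fun g =>
  H33.permChar ↥(twistedG2 K P.e) (↥(twistedG2 K P.e) ⧸ P.BT) g - 1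

theorem St_one : St P 1 = (Nat.card K : ℂ) ^ 3 := by
  rw [St, H33.permChar_one, ← Nat.card_eq_fintype_card, ← Subgroup.index_eq_card, P.index_BT]
  push_cast
  ring

theorem St_irr : IsIrrCharacter ↥(twistedG2 K P.e) (St P) := by
  classical
  haveI : Nonempty (↥(twistedG2 K P.e) ⧸ P.BT) := ⟨((1 : ↥(twistedG2 K P.e)) : ↥(twistedG2 K P.e) ⧸ P.BT)⟩
  have h1 := H33.classInner_permChar_one (G := ↥(twistedG2 K P.e))
    (Ω := ↥(twistedG2 K P.e) ⧸ P.BT)
  have h2 := H33.classInner_permChar_self (G := ↥(twistedG2 K P.e))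
    (Ω := ↥(twistedG2 K P.e) ⧸ P.BT) ((1 : ↥(twistedG2 K P.e)) : ↥(twistedG2 K P.e) ⧸ P.BT)
  set a : ↥(twistedG2 K P.e) ⧸ P.BT := ((1 : ↥(twistedG2 K P.e)) : ↥(twistedG2 K P.e) ⧸ P.BT) with ha
  have hne : (P.nT : ↥(twistedG2 K P.e) ⧸ P.BT) ≠ a := fun e => P.nT_not_mem (by
    have := QuotientGroup.eq.1 e
    rwa [mul_one, inv_mem_iff] at this)
  have hr : Nat.card (MulAction.orbitRel.Quotient
      (MulAction.stabilizer ↥(twistedG2 K P.e) a) (↥(twistedG2 K P.e) ⧸ P.BT)) = 2 := by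
    rw [Nat.card_eq_two_iff]
    refine ⟨Quotient.mk'' a, Quotient.mk'' (P.nT : ↥(twistedG2 K P.e) ⧸ P.BT), fun e => ?_, ?_⟩
    · obtain ⟨w, hw⟩ := Quotient.exact' e.symm
      exact hne (hw.symm.trans w.2)
    · refine Set.eq_univ_of_forall fun q => ?_
      induction q using Quotient.inductionOn' with
      | h b =>
        by_cases hb : b = a
        · exact Or.inl (by rw [hb])
        · obtain ⟨u, hu⟩ := transitive_pair P b hb
          exact Or.inr (Quotient.sound' ⟨u, hu⟩)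
  obtain ⟨r, hr', e⟩ := IsChar.exists_eq_add (H33.isCharacter_permChar
    (G := ↥(twistedG2 K P.e)) (Ω := ↥(twistedG2 K P.e) ⧸ P.BT))
    CharBasic.isIrrCharacter_one (by rw [h1]; exact one_ne_zero)
  have hSt : St P = r := funext fun g => by rw [St, e]; simp
  rw [hSt]
  refine CharInduce.isIrr_of_norm_one hr' ?_
  have h11 := CharBasic.classInner_irr_self (CharBasic.isIrrCharacter_one (G := ↥(twistedG2 K P.e)))
  rw [e, CharBasic.classInner_add_left, h11, add_eq_left] at h1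
  have h3 := h2.trans (congrArg (Nat.cast : ℕ → ℂ) hr)
  rw [e, CharBasic.classInner_add_left, CharBasic.classInner_add_right,
    CharBasic.classInner_add_right, h11, h1, ← CharBasic.classInner_conj_symm, h1, map_zero] at h3
  push_cast at h3
  linear_combination h3

theorem linear_eq_one (hq : 4 < Nat.card K) {χ : ↥(twistedG2 K P.e) → ℂ}
    (h : IsCharacter ↥(twistedG2 K P.e) χ) (h1 : χ 1 = 1) : χ = fun _ => 1 := by
  obtain ⟨l, hl⟩ := IsChar.exists_hom_of_degree_one h h1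
  funext g
  have hg : g ∈ l.ker :=
    Abelianization.commutator_subset_ker l (by rw [P.perfect hq]; exact Subgroup.mem_top g)
  rw [hl, MonoidHom.mem_ker.1 hg, Units.val_one]

theorem eq_St (hq : 4 < Nat.card K) (χ : IrrCharacter ↥(twistedG2 K P.e))
    (hd : Nat.card K ^ 3 ∣ charDegree (χ : ↥(twistedG2 K P.e) → ℂ)) :
    (χ : ↥(twistedG2 K P.e) → ℂ) = St P := by
  classical
  haveI : Fact (Nat.Prime 3) := ⟨Nat.prime_three⟩
  obtain ⟨n, ρ, hρ, hχ⟩ := χ.2
  have hn : charDegree (χ : ↥(twistedG2 K P.e) → ℂ) = n := by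
    rw [← hχ]; simp [charDegree]
  have hn1 : (χ : ↥(twistedG2 K P.e) → ℂ) 1 = (n : ℂ) := by rw [← hχ]; simp
  have hn0 : 0 < n := by simpa using CharBasic.finrank_pos_of_isIrreducible ρ
  rw [hn] at hd
  obtain ⟨N, hN, eN⟩ := P.card_pow_three
  have hvan : ∀ g : ↥(twistedG2 K P.e), g ∈ P.UT → g ≠ 1 →
      (χ : ↥(twistedG2 K P.e) → ℂ) g = 0 := by
    intro g hg hg1
    rw [← hχ]
    refine H26.defect_zero_vanish ρ (p := 3) (n := N * 3) Nat.prime_three ?_ ?_ ?_ ?_
    · rw [P.card_T, mul_assoc, pow_mul, ← eN]; exact dvd_mul_right _ _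
    · rw [P.card_T, mul_assoc, pow_succ, pow_mul, ← eN]
      exact fun h => P.not_dvd_cofactor (Nat.dvd_of_mul_dvd_mul_left (by positivity) h)
    · rw [pow_mul, ← eN]; simpa using hd
    · have h := orderOf_dvd_of_pow_eq_one (P.UT_pow hg)
      rw [eN, ← pow_mul] at h
      obtain ⟨i, -, hi⟩ := (Nat.dvd_prime_pow Nat.prime_three).1 h
      rcases Nat.eq_zero_or_pos i with rfl | hi0
      · exact absurd (orderOf_eq_one_iff.1 (by simpa using hi)) hg1
      · rw [hi]; exact dvd_pow_self 3 hi0.ne'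
  haveI : Fintype ↥P.BT := Fintype.ofFinite _
  have hne : ∃ φ : IrrCharacter Kˣ,
      classInner (fun b : ↥P.BT => (φ : Kˣ → ℂ) (piB P b))
        (fun b : ↥P.BT => (χ : ↥(twistedG2 K P.e) → ℂ) b) ≠ 0 := by
    by_contra hcon
    push Not at hcon
    have h0 : ∑ φ : IrrCharacter Kˣ, (φ : Kˣ → ℂ) 1 *
        classInner (fun b : ↥P.BT => (φ : Kˣ → ℂ) (piB P b))
          (fun b : ↥P.BT => (χ : ↥(twistedG2 K P.e) → ℂ) b) = 0 :=
      Finset.sum_eq_zero fun φ _ => by rw [hcon, mul_zero]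
    simp only [CharBasic.classInner_def, Finset.mul_sum] at h0
    have key : ∀ b : ↥P.BT, ∑ φ : IrrCharacter Kˣ, (φ : Kˣ → ℂ) 1 * ((Nat.card ↥P.BT : ℂ)⁻¹ *
        ((φ : Kˣ → ℂ) (piB P b) * conj ((χ : ↥(twistedG2 K P.e) → ℂ) (b : ↥(twistedG2 K P.e))))) =
        (Nat.card ↥P.BT : ℂ)⁻¹ * conj ((χ : ↥(twistedG2 K P.e) → ℂ) (b : ↥(twistedG2 K P.e))) *
          (if piB P b = 1 then (Nat.card Kˣ : ℂ) else 0) := fun b => by
      rw [← CharBasic.sum_degree_mul_apply, Finset.mul_sum]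
      exact Finset.sum_congr rfl fun φ _ => by ring
    rw [Finset.sum_comm, Finset.sum_congr rfl fun b _ => key b,
      Finset.sum_eq_single (1 : ↥P.BT)] at h0
    · rw [map_one, if_pos rfl, Subgroup.coe_one, hn1] at h0
      simp [hn0.ne'] at h0
    · intro b _ hb
      split_ifs with hπ
      · rw [hvan _ ((piB_eq_one P).1 hπ) fun e => hb (Subtype.ext e), map_zero, mul_zero, zero_mul]
      · exact mul_zero _
    · simp
  obtain ⟨φ, hφ⟩ := hne
  have hlin : (φ : Kˣ → ℂ) 1 = 1 :=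
    (CharBasic.commutative_iff_forall_linear (G := Kˣ)).1 (fun a b => mul_comm a b) φ
  set lam : ↥P.BT → ℂ := fun b => (φ : Kˣ → ℂ) (piB P b)
  have hlam : IsCharacter ↥P.BT lam := IsChar.comp (CharBasic.IsIrr.isCharacter φ.2) (piB P)
  have hInd := IsChar.ind P.BT hlam
  have hc : classInner (indFun P.BT lam) (χ : ↥(twistedG2 K P.e) → ℂ) ≠ 0 := by
    rw [classInner_indFun_left P.BT lam _ (CharBasic.IsIrr.isClassFunction χ.2)]
    exact hφ
  obtain ⟨r, hr, e⟩ := IsChar.exists_eq_add hInd χ.2 hc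
  obtain ⟨c, hc1⟩ := CharBasic.IsChar.exists_degree hr
  have hdeg : ((Nat.card K ^ 3 + 1 : ℕ) : ℂ) = ((n + c : ℕ) : ℂ) := by
    have h := congrFun e 1
    rw [indFun_one, P.index_BT, Pi.add_apply, hn1, hc1,
      show lam 1 = 1 by simp only [lam, map_one, hlin], mul_one] at h
    rw [h]; push_cast; rfl
  rw [Nat.cast_inj] at hdeg
  obtain ⟨k, hk⟩ := hd
  have h27 : 2 ≤ Nat.card K ^ 3 := by
    have := Nat.le_self_pow (show 3 ≠ 0 by norm_num) (Nat.card K); omega
  have hk1 : k = 1 := by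
    have hkpos : 0 < k := Nat.pos_of_ne_zero fun h => by rw [h, mul_zero] at hk; omega
    by_contra hne
    have : 2 * Nat.card K ^ 3 ≤ n := by
      rw [hk, mul_comm]; exact Nat.mul_le_mul_left _ (by omega)
    omega
  rw [hk1, mul_one] at hk
  obtain rfl : c = 1 := by omega
  have hr1 := linear_eq_one P hq hr (by rw [hc1, Nat.cast_one])
  subst hr1
  have hlam1 : lam = fun _ => 1 := by
    by_contra hl
    have hirr : IsIrrCharacter ↥P.BT lam := by
      obtain ⟨l, hl⟩ := IsChar.exists_hom_of_degree_one hlam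
        (by simp only [lam, map_one, hlin])
      rw [show lam = fun b => (l b : ℂ) from funext hl]
      exact isIrrCharacter_hom l
    have h := classInner_indFun_left P.BT lam (fun _ => (1 : ℂ))
      (CharBasic.IsIrr.isClassFunction CharBasic.isIrrCharacter_one)
    rw [e, CharBasic.classInner_add_left,
      CharBasic.classInner_irr_self CharBasic.isIrrCharacter_one,
      CharBasic.classInner_irr_of_ne hirr CharBasic.isIrrCharacter_one hl,
      CharBasic.classInner_irr_of_ne χ.2 CharBasic.isIrrCharacter_one (fun h1 => by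
        have := congrFun h1 1
        rw [hn1, hk, ← Nat.cast_one, Nat.cast_inj] at this
        omega), zero_add] at h
    exact one_ne_zero h
  funext g
  have hfix := congrFun (fixedBy_eq_indFun (G := ↥(twistedG2 K P.e))
    ((1 : ↥(twistedG2 K P.e)) : ↥(twistedG2 K P.e) ⧸ P.BT)) g
  have hstab : MulAction.stabilizer ↥(twistedG2 K P.e)
      ((1 : ↥(twistedG2 K P.e)) : ↥(twistedG2 K P.e) ⧸ P.BT) = P.BT := by
    ext f; rw [P.stab_coset]; simp
  rw [hstab] at hfix
  rw [St, H33.permChar, hfix, ← hlam1, e]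
  simp

end Cfsg.Agent.H37.ReeSq
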