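import Cfsg.Agent.H37.ReeSq.Cent
import Cfsg.Agent.H37.ReeSq.Steinberg
import Cfsg.Agent.H54.CentralBlocks

/-!
`²G₂(q)`: every non-trivial element is a product of two conjugates of a regular semisimple element.
-/
set_option autoImplicit false
set_option linter.style.haveILetI false
set_option linter.unusedSectionVars false
set_option maxRecDepth 100000

open scoped ComplexConjugate

namespace Cfsg.Agent.H37.ReeSq

open Cfsg Cfsg.Lie Cfsg.Agent Cfsg.Agent.H38.Ree Cfsg.Agent.H37.Twist Cfsg.Agent.BlockBasic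
open Cfsg.Agent.H54

variable {K : Type*} [Field K] [Fintype K] (P : Par K)
include P

theorem centralLocal : CB.CentralLocal 3 ↥(twistedG2 K P.e) := by
  intro D hD hDp hrad g hg hgc
  haveI : Fact (Nat.Prime 3) := ⟨Nat.prime_three⟩
  haveI : Finite ↥(twistedG2 K P.e) := Subtype.finite
  obtain ⟨S, hS⟩ := hDp.exists_le_sylow
  set N := Subgroup.normalizer (D : Set ↥(twistedG2 K P.e))
  have hnS : ∀ n ∈ N, ∀ u ∈ (S : Subgroup ↥(twistedG2 K P.e)),
      n * u * n⁻¹ ∈ (S : Subgroup ↥(twistedG2 K P.e)) := by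
    intro n hn u hu
    have e : n • S = S := by
      by_contra hne
      have h := P.sylow_TI _ S hne
      obtain ⟨t, ht, ht1⟩ := exists_mem_ne_one hD
      refine ht1 (Subgroup.mem_bot.1 (h ▸ Subgroup.mem_inf.2 ⟨?_, hS ht⟩))
      rw [Sylow.coe_subgroup_smul]
      refine ⟨n⁻¹ * t * n, hS ((Subgroup.mem_normalizer_iff.1 hn _).2 ?_), ?_⟩
      · rwa [show n * (n⁻¹ * t * n) * n⁻¹ = t by group]
      · show n * (n⁻¹ * t * n) * n⁻¹ = t
        group
    rw [← e, Sylow.coe_subgroup_smul]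
    exact ⟨u, hu, rfl⟩
  have hle : ((S : Subgroup ↥(twistedG2 K P.e)) ⊓ N).subgroupOf N ≤ Cfsg.pCore 3 ↥N := by
    haveI : (((S : Subgroup ↥(twistedG2 K P.e)) ⊓ N).subgroupOf N).Normal := ⟨fun u hu y => by
      rw [Subgroup.mem_subgroupOf, Subgroup.mem_inf] at hu ⊢
      exact ⟨hnS _ y.2 _ hu.1, mul_mem (mul_mem y.2 hu.2) (inv_mem y.2)⟩⟩
    exact Cores.le_pCore ((S.isPGroup'.to_le inf_le_left).of_equiv
      (Subgroup.subgroupOfEquivOfLe inf_le_right).symm)
  have hND : (S : Subgroup ↥(twistedG2 K P.e)) ⊓ N ≤ D := fun y hy => by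
    rw [← hrad]
    exact ⟨⟨y, hy.2⟩, hle hy, rfl⟩
  have hSD : (S : Subgroup ↥(twistedG2 K P.e)) ≤ D := by
    by_contra hnot
    have hlt : D.subgroupOf (S : Subgroup ↥(twistedG2 K P.e)) < ⊤ :=
      lt_top_iff_ne_top.2 fun h => hnot (Subgroup.subgroupOf_eq_top.1 h)
    haveI : Group.IsNilpotent (S : Subgroup ↥(twistedG2 K P.e)) := S.isPGroup'.isNilpotent
    obtain ⟨z, hz1, hz2⟩ :=
      SetLike.exists_of_lt (Group.normalizerCondition_of_isNilpotent _ hlt)
    refine hz2 (Subgroup.mem_subgroupOf.2 (hND ⟨z.2,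
      Subgroup.mem_normalizer_iff.2 fun y => ⟨fun hy => ?_, fun hy => ?_⟩⟩))
    · exact Subgroup.mem_subgroupOf.1 ((Subgroup.mem_normalizer_iff.1 hz1 ⟨y, hS hy⟩).1
        (Subgroup.mem_subgroupOf.2 hy))
    · have hy' : y ∈ (S : Subgroup ↥(twistedG2 K P.e)) := by
        have := mul_mem (mul_mem (inv_mem z.2) (hS hy)) z.2
        simpa [mul_assoc] using this
      exact Subgroup.mem_subgroupOf.1 ((Subgroup.mem_normalizer_iff.1 hz1 ⟨y, hy'⟩).2
        (Subgroup.mem_subgroupOf.2 hy))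
  obtain ⟨S0, hS0⟩ := P.exists_sylow
  obtain ⟨a, rfl⟩ := MulAction.exists_smul_eq ↥(twistedG2 K P.e) S0 S
  have hc : ∀ u ∈ P.UT, (a⁻¹ * g * a) * u = u * (a⁻¹ * g * a) := fun u hu => by
    have hau : a * u * a⁻¹ ∈ D := hSD (by
      rw [Sylow.coe_subgroup_smul, hS0]; exact ⟨u, hu, rfl⟩)
    have h := Subgroup.mem_centralizer_iff.1 hgc _ hau
    calc a⁻¹ * g * a * u = a⁻¹ * (g * (a * u * a⁻¹)) * a := by group
      _ = a⁻¹ * (a * u * a⁻¹ * g) * a := by rw [h]
      _ = _ := by group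
  have ho : orderOf (a⁻¹ * g * a) = orderOf g := by
    conv_lhs => rw [show a⁻¹ * g * a = a⁻¹ * g * a⁻¹⁻¹ by group]
    rw [orderOf_conj_eq]
  have hone : P.uT ((0 : K), (0 : K), (1 : K)) ≠ 1 := fun e => by
    rw [← P.uT_one, P.uT_injective.eq_iff] at e
    exact one_ne_zero (congrArg (fun z : K × K × K => z.2.2) e)
  have hB : a⁻¹ * g * a ∈ P.BT := P.mem_BT_of_conj (x := P.uT ((0 : K), (0 : K), (1 : K)))
    (P.uT_mem _) hone (by rw [hc _ (P.uT_mem _), mul_inv_cancel_right]; exact P.uT_mem _)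
  obtain ⟨u, hu, y, e⟩ := P.BT_form.1 hB
  obtain ⟨⟨a', c', d'⟩, rfl⟩ := P.exists_uT hu
  have h1 := hc (P.uT ((1 : K), (0 : K), (0 : K))) (P.uT_mem _)
  rw [e] at h1
  have e1 := comm_uT P h1
  rw [uT_mul, uT_mul, P.uT_injective.eq_iff] at e1
  simp only [Prod.mk.injEq] at e1
  have hy : y = 1 := P.χ6_eq_one (Units.ext (by
    rw [Units.val_one]; linear_combination e1.1))
  subst hy
  rw [map_one, mul_one] at e
  obtain ⟨k, -, hk⟩ := P.card_pow_three
  have hd := orderOf_dvd_of_pow_eq_one (P.UT_pow hu)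
  rw [← e, ho, hk, ← pow_mul] at hd
  obtain ⟨i, -, hi⟩ := (Nat.dvd_prime_pow Nat.prime_three).1 hd
  rcases Nat.eq_zero_or_pos i with rfl | hi0
  · have h1 : g = 1 := orderOf_eq_one_iff.1 (by simpa using hi)
    rw [h1]
    exact one_mem _
  · exact absurd (hi ▸ dvd_pow_self 3 hi0.ne') hg

theorem center_bot (hq : 4 < Nat.card K) : Subgroup.center ↥(twistedG2 K P.e) = ⊥ := by
  obtain ⟨hs, hn⟩ := P.simple hq
  rcases (Subgroup.center ↥(twistedG2 K P.e)).normal_of_characteristic.eq_bot_or_eq_top with h | h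
  · exact h
  · exact absurd ⟨⟨fun a b => Subgroup.mem_center_iff.1 (h.symm ▸ Subgroup.mem_top b) a⟩⟩ hn

variable [Fintype ↥(twistedG2 K P.e)] [Fintype (↥(twistedG2 K P.e) ⧸ P.BT)]

theorem St_aT (hq : 4 < Nat.card K) : St P (P.ft (-1)) = Nat.card K := by
  rw [St, H33.permChar, (invol_counts P hq).2.2]
  push_cast
  ring

theorem centralChar_St_aT (hq : 4 < Nat.card K) :
    centralChar (St P) (P.ft (-1)) = (P.NN : ℂ) := by
  classical
  rw [centralChar, St_aT P hq, St_one, ← H83.classSize_eq_index (P.ft (-1)),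
    ← Fintype.card_subtype, ← Nat.card_eq_fintype_card, (invol_counts P hq).1]
  have : (Nat.card K : ℂ) ≠ 0 := Nat.cast_ne_zero.2 Nat.card_pos.ne'
  push_cast
  field_simp

theorem St_sq (hq : 4 < Nat.card K) {x : ↥(twistedG2 K P.e)} (hx : RSS P x) :
    St P x * St P x = 1 := by
  classical
  by_cases h : ∃ a, a⁻¹ * x * a ∈ P.BT
  · obtain ⟨a, ha⟩ := h
    have e : a⁻¹ * x * a = a⁻¹ * x * a⁻¹⁻¹ := by group
    obtain ⟨u, hu, y, eu⟩ := P.BT_form.1 ha
    have ho : orderOf (u * P.ft y) = orderOf x := by rw [← eu, e, orderOf_conj_eq]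
    have hy : y ^ 2 ≠ 1 := by
      intro hy
      obtain ⟨v, rfl⟩ := P.exists_uT hu
      rcases (sq_eq_one_iff.1 (show (y : K) ^ 2 = 1 from congrArg Units.val hy)) with e | e
      · obtain rfl : y = 1 := Units.ext e
        rw [map_one, mul_one] at ho
        have h := P.uT_cube v
        by_cases hv : v = 0
        · rw [hv, P.uT_one, orderOf_one] at ho
          have := hx.1
          omega
        by_cases h0 : v.1 = 0
        · exact hx.2 (by rw [← ho, P.order_uT_three h0 hv])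
        · exact hx.2 (by rw [← ho, P.order_uT_nine h0]; norm_num)
      · obtain rfl : y = -1 := Units.ext (by rw [e, Units.val_neg, Units.val_one])
        by_cases hc : v.2.1 = v.1 * P.th v.1
        · rw [P.order_inv_coset.1 hc] at ho
          have := hx.1
          omega
        · exact hx.2 (by rw [← ho, P.order_inv_coset.2 hc]; norm_num)
    obtain ⟨w, -, hw⟩ := P.conj_of_regular hy hu
    have hxy : x = a * w * P.ft y * (a * w)⁻¹ := by
      rw [show a * w * P.ft y * (a * w)⁻¹ = a * (w * P.ft y * w⁻¹) * a⁻¹ by group, hw, ← eu]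
      group
    have hcl := CharBasic.IsIrr.isClassFunction (St_irr P)
    rw [hxy, hcl, St, H33.permChar]
    suffices hf : Nat.card (MulAction.fixedBy (↥(twistedG2 K P.e) ⧸ P.BT) (P.ft y)) = 2 by
      rw [hf]; norm_num
    set b : ↥(twistedG2 K P.e) ⧸ P.BT :=
      ((1 : ↥(twistedG2 K P.e)) : ↥(twistedG2 K P.e) ⧸ P.BT)
    have hfix : ∀ g : ↥(twistedG2 K P.e),
        (g : ↥(twistedG2 K P.e) ⧸ P.BT) ∈ MulAction.fixedBy _ (P.ft y) ↔
          g⁻¹ * P.ft y * g ∈ P.BT := fun g => P.stab_coset g (P.ft y)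
    have hb : b ∈ MulAction.fixedBy _ (P.ft y) :=
      (hfix 1).2 (by rw [inv_one, one_mul, mul_one]; exact P.ft_mem_BT y)
    have hwT : P.wT ∉ P.BT := fun h => by
      obtain ⟨u', hu', k, hk, e'⟩ := P.mem_BT.1 h
      exact P.wEl_not_U one_ne_zero hu' hk ((P.Φ_wEl 1).symm.trans e')
    have hbw : (P.wT : ↥(twistedG2 K P.e) ⧸ P.BT) ∈ MulAction.fixedBy _ (P.ft y) :=
      (hfix _).2 (by
        have h := P.wT_inv y
        rw [wT_inv' P] at h ⊢
        rw [h]; exact P.ft_mem_BT _)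
    have hle : MulAction.fixedBy (↥(twistedG2 K P.e) ⧸ P.BT) (P.ft y) ⊆
        {b, (P.nT : ↥(twistedG2 K P.e) ⧸ P.BT)} := by
      intro q hq'
      induction q using QuotientGroup.induction_on with
      | _ g =>
        by_cases hg : g ∈ P.BT
        · exact Or.inl (QuotientGroup.eq.2 (by rw [mul_one]; exact inv_mem hg))
        obtain ⟨u', hu', e'⟩ := P.coset_form hg
        refine Or.inr ?_
        rw [e'] at hq' ⊢
        have h2 := (hfix _).1 hq'
        have hu'T := P.mem_UT.2 hu'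
        have h3 : u'⁻¹ * P.ft y * u' ∈ P.BT :=
          mul_mem (mul_mem (inv_mem (P.UT_le_BT hu'T)) (P.ft_mem_BT y)) (P.UT_le_BT hu'T)
        obtain ⟨z, hz⟩ := P.B_inter _ h3 (by
          rw [show P.nT⁻¹ * (u'⁻¹ * P.ft y * u') * P.nT
            = (u' * P.nT)⁻¹ * P.ft y * (u' * P.nT) by group]
          exact h2)
        have h4 : u'⁻¹ * P.ft y * u' = P.ft z := P.inc_inj hz
        have h5 : u'⁻¹ * (P.ft y * u' * (P.ft y)⁻¹) * P.ft y = 1 * P.ft z := by
          rw [one_mul, ← h4]; group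
        obtain ⟨h6, -⟩ := P.BT_unique (mul_mem (inv_mem hu'T) (P.ft_conj_UT y hu'T))
          (one_mem _) h5
        have h7 : u' = 1 := P.fpf_UT hy hu'T
          (mul_inv_eq_iff_eq_mul.1 (inv_mul_eq_one.1 h6).symm)
        rw [h7, one_mul]
        rfl
    have hne : (P.wT : ↥(twistedG2 K P.e) ⧸ P.BT) ≠ b := fun e' => hwT (by
      have := QuotientGroup.eq.1 e'
      rwa [mul_one, inv_mem_iff] at this)
    refine le_antisymm ?_ ?_
    · rw [Nat.card_coe_set_eq]
      exact (Set.ncard_le_ncard hle).trans ((Set.ncard_insert_le _ _).trans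
        (by rw [Set.ncard_singleton]))
    · rw [Nat.card_coe_set_eq]
      calc 2 = ({b, (P.wT : ↥(twistedG2 K P.e) ⧸ P.BT)} :
            Set (↥(twistedG2 K P.e) ⧸ P.BT)).ncard := (Set.ncard_pair hne.symm).symm
        _ ≤ _ := Set.ncard_le_ncard (Set.insert_subset hb (Set.singleton_subset_iff.2 hbw))
  · have hf : Nat.card (MulAction.fixedBy (↥(twistedG2 K P.e) ⧸ P.BT) x) = 0 := by
      haveI : IsEmpty (MulAction.fixedBy (↥(twistedG2 K P.e) ⧸ P.BT) x) := by
        refine ⟨fun ⟨q, hq'⟩ => ?_⟩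
        induction q using QuotientGroup.induction_on with
        | _ g => exact h ⟨g, (P.stab_coset g x).1 hq'⟩
      exact Nat.card_of_isEmpty
    rw [St, H33.permChar, hf]
    norm_num

theorem cov_of_count {x g : ↥(twistedG2 K P.e)}
    (h : ∑ χ : IrrCharacter ↥(twistedG2 K P.e),
      conj ((χ : ↥(twistedG2 K P.e) → ℂ) x) * conj ((χ : ↥(twistedG2 K P.e) → ℂ) x) *
        (χ : ↥(twistedG2 K P.e) → ℂ) g / (χ : ↥(twistedG2 K P.e) → ℂ) 1 ≠ 0) : Cov x g := by
  by_contra hcon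
  haveI : IsEmpty {a // IsConj x a ∧ IsConj x (a⁻¹ * g)} :=
    ⟨fun a => hcon ⟨a.1, a.1⁻¹ * g, a.2.1, a.2.2, (mul_inv_cancel_left _ _).symm⟩⟩
  have e := H83.card_pairs_mul_card x x g
  rw [show Nat.card {a // IsConj x a ∧ IsConj x (a⁻¹ * g)} = 0 from Nat.card_of_isEmpty,
    Nat.cast_zero, mul_zero, eq_comm] at e
  refine h ((mul_eq_zero.1 e).resolve_left (mul_ne_zero ?_ ?_)) <;>
    exact Nat.cast_ne_zero.2 Subgroup.index_ne_zero_of_finite

theorem cov_invol (hq : 4 < Nat.card K) {x : ↥(twistedG2 K P.e)} (hx : RSS P x) :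
    Cov x (P.ft (-1)) := by
  classical
  haveI : Fact (Nat.Prime 3) := ⟨Nat.prime_three⟩
  set t := P.ft (-1)
  refine cov_of_count P fun h0 => ?_
  obtain ⟨M, hM⟩ := exists_isPModular (p := 3) Nat.prime_three
  have hZ : Nat.card (Subgroup.center ↥(twistedG2 K P.e)) = 1 := by
    rw [center_bot P hq]; exact Subgroup.card_bot
  obtain ⟨N, hN, eN⟩ := P.card_pow_three
  have h3G : 3 ∣ Nat.card ↥(twistedG2 K P.e) := by
    rw [P.card_T, eN, ← pow_mul]
    exact dvd_mul_of_dvd_left (dvd_mul_of_dvd_left (dvd_pow_self 3 (by omega)) _) _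
  have hone := CB.card_positive (centralLocal P) hM (by rw [hZ]; norm_num) h3G
  rw [hZ, Nat.card_eq_one_iff_unique] at hone
  let one : IrrCharacter ↥(twistedG2 K P.e) := ⟨fun _ => 1, CharBasic.isIrrCharacter_one⟩
  let st : IrrCharacter ↥(twistedG2 K P.e) := ⟨St P, St_irr P⟩
  have hdz : ∀ χ : IrrCharacter ↥(twistedG2 K P.e),
      blockDefect 3 (blockOf M (χ : ↥(twistedG2 K P.e) → ℂ)) = 0 → χ = st := by
    intro χ hd
    obtain ⟨ψ, hψ, hψ'⟩ := (CB.blockDefect_eq_zero_iff hM ⟨χ, rfl⟩).1 hd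
    have hχψ : χ = ψ := by
      have := self_mem_blockOf hM χ
      rwa [hψ] at this
    subst hχψ
    refine Subtype.ext (eq_St P hq χ ?_)
    have hdvd := charDegree_dvd χ
    obtain ⟨r, hr⟩ := hdvd
    rw [hr, Nat.mul_div_cancel_left _ (charDegree_pos χ)] at hψ'
    have hq3 : Nat.card K ^ 3 ∣ Nat.card ↥(twistedG2 K P.e) := by
      rw [P.card_T, mul_assoc]; exact dvd_mul_right _ _
    rw [hr] at hq3
    refine (Nat.Coprime.dvd_of_dvd_mul_right ?_ hq3)
    rw [eN, ← pow_mul]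
    exact ((Nat.Prime.coprime_iff_not_dvd Nat.prime_three).2 hψ').pow_left _
  have hpos : blockDefect 3 (blockOf M (one : ↥(twistedG2 K P.e) → ℂ)) ≠ 0 := by
    intro hd
    have h := congrArg (fun χ : IrrCharacter ↥(twistedG2 K P.e) =>
      (χ : ↥(twistedG2 K P.e) → ℂ) 1) (hdz one hd)
    simp only [one, st, St_one] at h
    rw [← Nat.cast_pow, ← Nat.cast_one, Nat.cast_inj] at h
    have h2 : 4 ^ 3 ≤ Nat.card K ^ 3 := Nat.pow_le_pow_left hq.le 3
    omega
  have hind : ((Subgroup.centralizer ({t} : Set ↥(twistedG2 K P.e))).index : ℕ)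
      = Nat.card K ^ 2 * P.NN := by
    rw [← H83.classSize_eq_index t, ← Fintype.card_subtype, ← Nat.card_eq_fintype_card,
      (invol_counts P hq).1]
  have hone' : MemLocalIdeal M (centralChar (one : ↥(twistedG2 K P.e) → ℂ) t) := by
    have e : centralChar (one : ↥(twistedG2 K P.e) → ℂ) t = ((Nat.card K ^ 2 * P.NN : ℕ) : ℂ) := by
      rw [centralChar, hind]; simp [one]
    rw [e]
    exact (memLocalIdeal_natCast_iff hM _).2 (dvd_mul_of_dvd_left
      (by rw [eN, ← pow_mul]; exact dvd_pow_self 3 (by omega)) _)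
  have hother : ∀ χ : IrrCharacter ↥(twistedG2 K P.e), χ ≠ st →
      MemLocalIdeal M (centralChar (χ : ↥(twistedG2 K P.e) → ℂ) t) := by
    intro χ hχ
    have hd : blockDefect 3 (blockOf M (χ : ↥(twistedG2 K P.e) → ℂ)) ≠ 0 := fun h => hχ (hdz χ h)
    have heq : blockOf M (one : ↥(twistedG2 K P.e) → ℂ) = blockOf M (χ : ↥(twistedG2 K P.e) → ℂ) :=
      congrArg Subtype.val (@Subsingleton.elim _ hone.1
      ⟨_, ⟨one, rfl⟩, hpos⟩ ⟨_, ⟨χ, rfl⟩, hd⟩)
    have hmem := self_mem_blockOf hM χ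
    rw [← heq] at hmem
    have h := memLocalIdeal_sub hM hone' (hmem t)
    rwa [sub_sub_cancel] at h
  have hsum : ∑ χ : IrrCharacter ↥(twistedG2 K P.e),
      conj ((χ : ↥(twistedG2 K P.e) → ℂ) x) * conj ((χ : ↥(twistedG2 K P.e) → ℂ) x) *
        centralChar (χ : ↥(twistedG2 K P.e) → ℂ) t = 0 := by
    have h := congrArg (((Subgroup.centralizer ({t} : Set ↥(twistedG2 K P.e))).index : ℂ) * ·) h0
    simp only [mul_zero, Finset.mul_sum] at h
    rw [← h]
    exact Finset.sum_congr rfl fun χ _ => by rw [centralChar]; ring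
  rw [← Finset.add_sum_erase _ _ (Finset.mem_univ st)] at hsum
  have hrest : MemLocalIdeal M (∑ χ ∈ Finset.univ.erase st,
      conj ((χ : ↥(twistedG2 K P.e) → ℂ) x) * conj ((χ : ↥(twistedG2 K P.e) → ℂ) x) *
        centralChar (χ : ↥(twistedG2 K P.e) → ℂ) t) := by
    refine memLocalIdeal_sum hM _ _ fun χ hχ => memLocalIdeal_mul hM ?_
      (hother χ (Finset.ne_of_mem_erase hχ))
    rw [H83.irr_conj_apply χ.2 x]
    exact memLocalRing_of_isIntegral hM ((H83.irr_isIntegral χ.2 _).mul (H83.irr_isIntegral χ.2 _))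
  have hst : conj ((st : ↥(twistedG2 K P.e) → ℂ) x) * conj ((st : ↥(twistedG2 K P.e) → ℂ) x) *
      centralChar (st : ↥(twistedG2 K P.e) → ℂ) t = (P.NN : ℂ) := by
    rw [← map_mul]
    show conj (St P x * St P x) * centralChar (St P) (P.ft (-1)) = _
    rw [St_sq P hq hx, map_one, one_mul, centralChar_St_aT P hq]
  rw [hst] at hsum
  have hmem : MemLocalIdeal M (P.NN : ℂ) := by
    rw [eq_neg_of_add_eq_zero_left hsum]
    simpa using memLocalIdeal_sub hM (memLocalIdeal_zero hM) hrest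
  exact (P.NN_prime Nat.prime_three ((memLocalIdeal_natCast_iff hM _).1 hmem)).1.false

theorem cov_of_small_cent (hq : 4 < Nat.card K)
    (hdeg : ∀ χ : IrrCharacter ↥(twistedG2 K P.e),
      (χ : ↥(twistedG2 K P.e) → ℂ) ≠ (fun _ => 1) →
        Nat.card K ^ 2 + 1 ≤ charDegree (χ : ↥(twistedG2 K P.e) → ℂ) + Nat.card K)
    {x g : ↥(twistedG2 K P.e)} (hx : RSS P x)
    (hg : Nat.card ↥(Subgroup.centralizer {g}) ≤ 3 * Nat.card K) : Cov x g := by
  classical
  refine cov_of_count P fun h0 => ?_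
  let one : IrrCharacter ↥(twistedG2 K P.e) := ⟨fun _ => 1, CharBasic.isIrrCharacter_one⟩
  set q := Nat.card K with hqdef
  have h27 : (27 : ℝ) ≤ q := by exact_mod_cast P.q_ge hq
  have horth : ∀ y : ↥(twistedG2 K P.e), ∑ χ : IrrCharacter ↥(twistedG2 K P.e),
      ‖(χ : ↥(twistedG2 K P.e) → ℂ) y‖ ^ 2 = (Nat.card ↥(Subgroup.centralizer {y}) : ℝ) := by
    intro y
    have h := CharBasic.second_orthogonality_self y
    simp only [Complex.mul_conj'] at h
    exact_mod_cast h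
  have hgb : ∀ χ : IrrCharacter ↥(twistedG2 K P.e),
      ‖(χ : ↥(twistedG2 K P.e) → ℂ) g‖ ≤ q / 2 := by
    intro χ
    have h1 : ‖(χ : ↥(twistedG2 K P.e) → ℂ) g‖ ^ 2 ≤ (3 * q : ℕ) := by
      refine le_trans ?_ (Nat.cast_le.2 hg)
      rw [← horth g]
      exact Finset.single_le_sum (f := fun ψ : IrrCharacter ↥(twistedG2 K P.e) =>
        ‖(ψ : ↥(twistedG2 K P.e) → ℂ) g‖ ^ 2) (fun _ _ => sq_nonneg _) (Finset.mem_univ χ)
    push_cast at h1
    exact (pow_le_pow_iff_left₀ (norm_nonneg _) (by positivity) two_ne_zero).1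
      (h1.trans (by nlinarith))
  set T : IrrCharacter ↥(twistedG2 K P.e) → ℂ := fun χ =>
    conj ((χ : ↥(twistedG2 K P.e) → ℂ) x) * conj ((χ : ↥(twistedG2 K P.e) → ℂ) x) *
        (χ : ↥(twistedG2 K P.e) → ℂ) g / (χ : ↥(twistedG2 K P.e) → ℂ) 1
  set D : ℝ := (q : ℝ) ^ 2 - q + 1
  have hD : 0 < D := by simp only [D]; nlinarith
  have hT : ∀ χ : IrrCharacter ↥(twistedG2 K P.e), χ ≠ one →
      ‖T χ‖ ≤ ‖(χ : ↥(twistedG2 K P.e) → ℂ) x‖ ^ 2 * ((q / 2) / D) := by
    intro χ hχ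
    have hd := hdeg χ (fun e => hχ (Subtype.ext e))
    have hd' : D ≤ (charDegree (χ : ↥(twistedG2 K P.e) → ℂ) : ℝ) := by
      have : ((q ^ 2 + 1 : ℕ) : ℝ) ≤ ((charDegree (χ : ↥(twistedG2 K P.e) → ℂ) + q : ℕ) : ℝ) :=
        Nat.cast_le.2 hd
      push_cast at this
      simp only [D]; linarith
    simp only [T]
    rw [norm_div, norm_mul, norm_mul, RCLike.norm_conj, apply_one_eq_charDegree χ,
      Complex.norm_natCast, ← pow_two, mul_div_assoc]
    exact mul_le_mul_of_nonneg_left (div_le_div₀ (by positivity) (hgb χ) hD hd') (sq_nonneg _)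
  have h1 : T one = 1 := by simp [T, one]
  have h2 : ∑ χ : IrrCharacter ↥(twistedG2 K P.e), T χ = 0 := h0
  rw [← Finset.add_sum_erase _ T (Finset.mem_univ one), h1] at h2
  have h3 : (1 : ℝ) ≤ ∑ χ ∈ Finset.univ.erase one,
      ‖(χ : ↥(twistedG2 K P.e) → ℂ) x‖ ^ 2 * ((q / 2) / D) := by
    refine le_trans ?_ (Finset.sum_le_sum fun χ hχ => hT χ (Finset.ne_of_mem_erase hχ))
    refine le_trans ?_ (norm_sum_le _ _)
    rw [eq_neg_of_add_eq_zero_right h2]
    simp
  rw [← Finset.sum_mul] at h3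
  have h4 : ∑ χ ∈ Finset.univ.erase one, ‖(χ : ↥(twistedG2 K P.e) → ℂ) x‖ ^ 2
      ≤ (q : ℝ) + 3 * P.e + 1 := by
    refine (Finset.sum_le_sum_of_subset_of_nonneg (Finset.erase_subset _ _)
      fun _ _ _ => sq_nonneg _).trans ?_
    rw [horth x]
    exact_mod_cast card_cent_RSS P hq hx
  have h5 := h3.trans (mul_le_mul_of_nonneg_right h4 (by positivity))
  rw [mul_div_assoc', le_div_iff₀ hD] at h5
  have he : (3 * P.e : ℝ) + 1 ≤ q / 2 := by
    have h' := P.q_ge hq
    have hc := P.card_nat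
    have hn : 2 * (3 * P.e + 1) ≤ Nat.card K := by
      rw [hc] at h' ⊢
      have : 3 ≤ P.e := by nlinarith
      nlinarith
    have : ((2 * (3 * P.e + 1) : ℕ) : ℝ) ≤ (q : ℝ) := Nat.cast_le.2 hn
    push_cast at this
    linarith
  simp only [D] at h5
  nlinarith

/-- Every non-trivial element is a product of two conjugates of a regular semisimple element. -/
theorem cover (hq : 4 < Nat.card K)
    (hdeg : ∀ χ : IrrCharacter ↥(twistedG2 K P.e),
      (χ : ↥(twistedG2 K P.e) → ℂ) ≠ (fun _ => 1) →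
        Nat.card K ^ 2 + 1 ≤ charDegree (χ : ↥(twistedG2 K P.e) → ℂ) + Nat.card K)
    {x : ↥(twistedG2 K P.e)} (hx : RSS P x) {g : ↥(twistedG2 K P.e)} (hg : g ≠ 1) : Cov x g := by
  by_cases h3 : 3 ∣ orderOf g
  · rcases P.three_orders h3 with h | h | h
    · obtain ⟨a, ha⟩ := P.exists_three_conj h3
      have e : a⁻¹ * g * a = a⁻¹ * g * a⁻¹⁻¹ := by group
      rw [← Cov.conj_iff (u := a⁻¹), ← e]
      obtain ⟨v, ⟨ev, ⟨h0, hv, -⟩ | ⟨-, h'⟩⟩ | ⟨-, -, h'⟩⟩ := P.BT_shapes ha (by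
        rw [e, orderOf_conj_eq]; exact h3)
      · obtain ⟨a', c, d⟩ := v
        obtain rfl : a' = 0 := h0
        rw [ev]
        refine cov_order_three P hq hx ?_
        by_contra hcd
        push Not at hcd
        exact hv (by rw [hcd.1, hcd.2]; rfl)
      all_goals rw [e, orderOf_conj_eq, h] at h'; omega
    · exact cov_of_small_cent P hq hdeg hx (card_cent_six_nine P (Or.inl h))
    · exact cov_of_small_cent P hq hdeg hx (card_cent_six_nine P (Or.inr h))
  · by_cases h2 : orderOf g = 2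
    · obtain ⟨u, hu⟩ := isConj_iff.1 ((isConj_invol P hq).2 h2)
      rw [← hu, Cov.conj_iff]
      exact cov_invol P hq hx
    · haveI : Finite ↥(twistedG2 K P.e) := Subtype.finite
      have h' : RSS P g := ⟨by
        have := orderOf_pos g
        have : orderOf g ≠ 1 := fun e => hg (orderOf_eq_one_iff.1 e)
        omega, h3⟩
      refine cov_of_small_cent P hq hdeg hx ((card_cent_RSS P hq h').trans ?_)
      have hle : 3 * P.e ≤ Nat.card K := by
        rw [P.card_nat]; exact Nat.mul_le_mul_left 3 (Nat.le_self_pow two_ne_zero _)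
      omega

end Cfsg.Agent.H37.ReeSq
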