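import Cfsg.Agent.H38.Ree.Cyclic

/-!
The root elements of `G₂(K)`, characteristic three, on the seven-dimensional ideal.
-/
set_option autoImplicit false
set_option maxRecDepth 100000

namespace Cfsg.Agent.H37.ReeSq

open Cfsg.Lie Cfsg.Agent.H38.Ree

/-- Seven by seven matrices. -/
abbrev M7 (K : Type*) := Matrix (Fin 7) (Fin 7) K

/-- Coefficients of the root element `1`. -/
def c1 : List (Fin 7 × Fin 7 × ℕ × ℤ) :=
  [(1, 4, 1, 1), (3, 6, 1, -1)]

/-- Coefficients of the root element `3`. -/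
def c3 : List (Fin 7 × Fin 7 × ℕ × ℤ) :=
  [(0, 5, 1, -1), (1, 3, 1, 1), (2, 0, 1, -1), (2, 5, 2, -1), (4, 6, 1, -1)]

/-- Coefficients of the root element `6`. -/
def c6 : List (Fin 7 × Fin 7 × ℕ × ℤ) :=
  [(3, 2, 1, -1), (5, 4, 1, 1)]

/-- Coefficients of the root element `7`. -/
def c7 : List (Fin 7 × Fin 7 × ℕ × ℤ) :=
  [(0, 3, 1, 1), (2, 1, 1, -1), (4, 0, 1, 1), (4, 3, 2, -1), (6, 5, 1, 1)]

/-- Coefficients of the root element `8`. -/
def c8 : List (Fin 7 × Fin 7 × ℕ × ℤ) :=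
  [(0, 2, 1, 1), (3, 1, 1, 1), (5, 0, 1, 1), (5, 2, 2, -1), (6, 4, 1, -1)]

/-- Coefficients of the root element `9`. -/
def c9 : List (Fin 7 × Fin 7 × ℕ × ℤ) :=
  [(0, 1, 1, -1), (4, 2, 1, 1), (5, 3, 1, -1), (6, 0, 1, -1), (6, 1, 2, -1)]

/-- Coefficients of the root element `10`. -/
def c10 : List (Fin 7 × Fin 7 × ℕ × ℤ) :=
  [(4, 1, 1, 1), (6, 3, 1, -1)]

/-- Coefficients of the root element `11`. -/
def c11 : List (Fin 7 × Fin 7 × ℕ × ℤ) :=
  [(5, 1, 1, 1), (6, 2, 1, -1)]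

section defs

variable {K : Type*} [Field K]

/-- The root element `1` on seven dimensions. -/
def m1 (t : K) : M7 K :=
  !![1, 0, 0, 0, 0, 0, 0;
     0, 1, 0, 0, t, 0, 0;
     0, 0, 1, 0, 0, 0, 0;
     0, 0, 0, 1, 0, 0, -t;
     0, 0, 0, 0, 1, 0, 0;
     0, 0, 0, 0, 0, 1, 0;
     0, 0, 0, 0, 0, 0, 1]

/-- The root element `3` on seven dimensions. -/
def m3 (t : K) : M7 K :=
  !![1, 0, 0, 0, 0, -t, 0;
     0, 1, 0, t, 0, 0, 0;
     -t, 0, 1, 0, 0, -t ^ 2, 0;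
     0, 0, 0, 1, 0, 0, 0;
     0, 0, 0, 0, 1, 0, -t;
     0, 0, 0, 0, 0, 1, 0;
     0, 0, 0, 0, 0, 0, 1]

/-- The root element `6` on seven dimensions. -/
def m6 (t : K) : M7 K :=
  !![1, 0, 0, 0, 0, 0, 0;
     0, 1, 0, 0, 0, 0, 0;
     0, 0, 1, 0, 0, 0, 0;
     0, 0, -t, 1, 0, 0, 0;
     0, 0, 0, 0, 1, 0, 0;
     0, 0, 0, 0, t, 1, 0;
     0, 0, 0, 0, 0, 0, 1]

/-- The root element `7` on seven dimensions. -/
def m7 (t : K) : M7 K :=
  !![1, 0, 0, t, 0, 0, 0;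
     0, 1, 0, 0, 0, 0, 0;
     0, -t, 1, 0, 0, 0, 0;
     0, 0, 0, 1, 0, 0, 0;
     t, 0, 0, -t ^ 2, 1, 0, 0;
     0, 0, 0, 0, 0, 1, 0;
     0, 0, 0, 0, 0, t, 1]

/-- The root element `8` on seven dimensions. -/
def m8 (t : K) : M7 K :=
  !![1, 0, t, 0, 0, 0, 0;
     0, 1, 0, 0, 0, 0, 0;
     0, 0, 1, 0, 0, 0, 0;
     0, t, 0, 1, 0, 0, 0;
     0, 0, 0, 0, 1, 0, 0;
     t, 0, -t ^ 2, 0, 0, 1, 0;
     0, 0, 0, 0, -t, 0, 1]

/-- The root element `9` on seven dimensions. -/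
def m9 (t : K) : M7 K :=
  !![1, -t, 0, 0, 0, 0, 0;
     0, 1, 0, 0, 0, 0, 0;
     0, 0, 1, 0, 0, 0, 0;
     0, 0, 0, 1, 0, 0, 0;
     0, 0, t, 0, 1, 0, 0;
     0, 0, 0, -t, 0, 1, 0;
     -t, -t ^ 2, 0, 0, 0, 0, 1]

/-- The root element `10` on seven dimensions. -/
def m10 (t : K) : M7 K :=
  !![1, 0, 0, 0, 0, 0, 0;
     0, 1, 0, 0, 0, 0, 0;
     0, 0, 1, 0, 0, 0, 0;
     0, 0, 0, 1, 0, 0, 0;
     0, t, 0, 0, 1, 0, 0;
     0, 0, 0, 0, 0, 1, 0;
     0, 0, 0, -t, 0, 0, 1]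

/-- The root element `11` on seven dimensions. -/
def m11 (t : K) : M7 K :=
  !![1, 0, 0, 0, 0, 0, 0;
     0, 1, 0, 0, 0, 0, 0;
     0, 0, 1, 0, 0, 0, 0;
     0, 0, 0, 1, 0, 0, 0;
     0, 0, 0, 0, 1, 0, 0;
     0, t, 0, 0, 0, 1, 0;
     0, 0, -t, 0, 0, 0, 1]

end defs

/-- The coordinates of the ideal among those of the adjoint module. -/
def i7 : Fin 7 → chevG2.Idx :=
  ![.inl ⟨0, by decide⟩, .inr ⟨2, by decide⟩, .inr ⟨3, by decide⟩, .inr ⟨4, by decide⟩,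
    .inr ⟨7, by decide⟩, .inr ⟨8, by decide⟩, .inr ⟨9, by decide⟩]

theorem split_i7 (a : Fin 7) : H37.Isog.goodG2.split (.inl a) = i7 a :=
  Chevalley.idxNat_inj ((H37.Isog.goodG2.split_inl a).trans (by fin_cases a <;> rfl))

/-- The coefficient of `t^k` read off a sparse table. -/
def coef (l : List (Fin 7 × Fin 7 × ℕ × ℤ)) (k : ℕ) (a b : Fin 7) : ℤ :=
  (if k = 0 ∧ a = b then 1 else 0) +
    (l.map fun e => if e.1 = a ∧ e.2.1 = b ∧ e.2.2.1 = k then e.2.2.2 else 0).sum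

/-- The tables agree with the Chevalley basis modulo three. -/
def TableOK (r : ℕ) (l : List (Fin 7 × Fin 7 × ℕ × ℤ)) : Prop :=
  ∀ k : Fin 4, ∀ a b : Fin 7,
    (Chevalley.aMat chevG2 r k (i7 a) (i7 b) - coef l k a b) % 3 = 0

instance (r : ℕ) (l : List (Fin 7 × Fin 7 × ℕ × ℤ)) : Decidable (TableOK r l) :=
  inferInstanceAs (Decidable (∀ k : Fin 4, ∀ a b : Fin 7, _ = _))

theorem ok1 : TableOK 1 c1 := by decide +kernel
theorem ok3 : TableOK 3 c3 := by decide +kernel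
theorem ok6 : TableOK 6 c6 := by decide +kernel
theorem ok7 : TableOK 7 c7 := by decide +kernel
theorem ok8 : TableOK 8 c8 := by decide +kernel
theorem ok9 : TableOK 9 c9 := by decide +kernel
theorem ok10 : TableOK 10 c10 := by decide +kernel
theorem ok11 : TableOK 11 c11 := by decide +kernel

variable {K : Type*} [Field K] [Fintype K] (P : Par K)

/-- The action of `G₂(K)` on the ideal. -/
noncomputable def rep7 : ↥(chevG2.group K) →* M7 K :=
  haveI : CharP K H37.Isog.dataG2.p := P.char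
  (Units.coeHom (M7 K)).comp (H37.Isog.goodG2.idealHom (F := K) (Q K).ord)

theorem rep7_entry {r : ℕ} (hr : r < 12) (l : List (Fin 7 × Fin 7 × ℕ × ℤ)) (hl : TableOK r l)
    (t : K) (a b : Fin 7) :
    rep7 P (xe r t) a b = ∑ k ∈ Finset.range 4, (coef l k a b : K) * t ^ k := by
  haveI : CharP K 3 := P.char
  show chevG2.x K r t (H37.Isog.goodG2.split (.inl a)) (H37.Isog.goodG2.split (.inl b)) = _
  rw [x_eq_xR hr, split_i7, split_i7]
  show ∑ k ∈ Finset.range 4, (Chevalley.aMat chevG2 r k (i7 a) (i7 b) : K) * t ^ k = _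
  refine Finset.sum_congr rfl fun k hk => congrArg (· * t ^ k) ?_
  rw [CharP.intCast_eq_intCast K 3, Int.modEq_iff_dvd]
  have h := hl ⟨k, Finset.mem_range.1 hk⟩ a b
  exact dvd_sub_comm.1 (Int.dvd_of_emod_eq_zero h)

theorem rep7_1 (t : K) : rep7 P (xe 1 t) = m1 t := by
  ext a b
  rw [rep7_entry P (by omega) c1 ok1]
  fin_cases a <;> fin_cases b <;> simp [coef, c1, m1, Finset.sum_range_succ]

theorem rep7_3 (t : K) : rep7 P (xe 3 t) = m3 t := by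
  ext a b
  rw [rep7_entry P (by omega) c3 ok3]
  fin_cases a <;> fin_cases b <;> simp [coef, c3, m3, Finset.sum_range_succ]

theorem rep7_6 (t : K) : rep7 P (xe 6 t) = m6 t := by
  ext a b
  rw [rep7_entry P (by omega) c6 ok6]
  fin_cases a <;> fin_cases b <;> simp [coef, c6, m6, Finset.sum_range_succ]

theorem rep7_7 (t : K) : rep7 P (xe 7 t) = m7 t := by
  ext a b
  rw [rep7_entry P (by omega) c7 ok7]
  fin_cases a <;> fin_cases b <;> simp [coef, c7, m7, Finset.sum_range_succ]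

theorem rep7_8 (t : K) : rep7 P (xe 8 t) = m8 t := by
  ext a b
  rw [rep7_entry P (by omega) c8 ok8]
  fin_cases a <;> fin_cases b <;> simp [coef, c8, m8, Finset.sum_range_succ]

theorem rep7_9 (t : K) : rep7 P (xe 9 t) = m9 t := by
  ext a b
  rw [rep7_entry P (by omega) c9 ok9]
  fin_cases a <;> fin_cases b <;> simp [coef, c9, m9, Finset.sum_range_succ]

theorem rep7_10 (t : K) : rep7 P (xe 10 t) = m10 t := by
  ext a b
  rw [rep7_entry P (by omega) c10 ok10]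
  fin_cases a <;> fin_cases b <;> simp [coef, c10, m10, Finset.sum_range_succ]

theorem rep7_11 (t : K) : rep7 P (xe 11 t) = m11 t := by
  ext a b
  rw [rep7_entry P (by omega) c11 ok11]
  fin_cases a <;> fin_cases b <;> simp [coef, c11, m11, Finset.sum_range_succ]

end Cfsg.Agent.H37.ReeSq
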