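import Cfsg.Agent.H37.ReeSq.Root
import Cfsg.Agent.H38.Ree.Tori

/-!
Traces on seven dimensions: the unipotent group, the longest element, the torus involution.
-/
set_option autoImplicit false
set_option maxRecDepth 100000

namespace Cfsg.Agent.H37.ReeSq

open Cfsg.Lie Cfsg.Agent.H38.Ree Cfsg.Agent.H37.Twist

variable {K : Type*} [Field K]

/-- The product of the root elements `6`, `7`, `8`. -/
def mP1 (a b c : K) : M7 K :=
  !![1, b * c, c, b, 0, 0, 0;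
     0, 1, 0, 0, 0, 0, 0;
     0, -b, 1, 0, 0, 0, 0;
     0, c + a * b, -a, 1, 0, 0, 0;
     b, -(b ^ 2 * c), b * c, -(b ^ 2), 1, 0, 0;
     c + a * b, -(a * b ^ 2 * c), -(c ^ 2) + a * b * c, -(a * b ^ 2), a, 1, 0;
     b * c, 0, -(b * c ^ 2), 0, -c, b, 1]

/-- The product of the root elements `9`, `10`, `11`. -/
def mP2 (d g h : K) : M7 K :=
  !![1, -d, 0, 0, 0, 0, 0;
     0, 1, 0, 0, 0, 0, 0;
     0, 0, 1, 0, 0, 0, 0;
     0, 0, 0, 1, 0, 0, 0;
     0, g, d, 0, 1, 0, 0;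
     0, h, 0, -d, 0, 1, 0;
     -d, -(d ^ 2), -h, -g, 0, 0, 1]

/-- The longest element. -/
def mW : M7 K :=
  !![-1, 0, 0, 0, 0, 0, 0;
     0, 0, 0, 0, 0, 0, -1;
     0, 0, 0, 0, 0, -1, 0;
     0, 0, 0, 0, -1, 0, 0;
     0, 0, 0, -1, 0, 0, 0;
     0, 0, -1, 0, 0, 0, 0;
     0, -1, 0, 0, 0, 0, 0]

/-- The torus involution. -/
def mA : M7 K :=
  !![1, 0, 0, 0, 0, 0, 0;
     0, -1, 0, 0, 0, 0, 0;
     0, 0, 1, 0, 0, 0, 0;
     0, 0, 0, -1, 0, 0, 0;
     0, 0, 0, 0, -1, 0, 0;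
     0, 0, 0, 0, 0, 1, 0;
     0, 0, 0, 0, 0, 0, -1]

theorem mP1_eq (a b c : K) : m6 a * m7 b * m8 c = mP1 a b c := by
  simp [m6, m7, m8, mP1]
  constructor <;> ring

theorem mP2_eq (d g h : K) : m9 d * m10 g * m11 h = mP2 d g h := by
  simp [m9, m10, m11, mP2]

theorem pe_i7 : ∀ i : Fin 7, (Chevalley.pe (D := chevG2) 7 (i7 i) + Chevalley.pe (D := chevG2) 6 (i7 i)) % 2
    = (if i = 0 ∨ i = 2 ∨ i = 5 then 0 else 1) := by decide +kernel

section fin

variable [Fintype K] (P : Par K)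
include P

theorem rep7_N (a b c d g h : K) : rep7 P (N a b c d g h) = mP1 a b c * mP2 d g h := by
  rw [N, ← mP1_eq, ← mP2_eq]
  simp only [map_mul, rep7_6, rep7_7, rep7_8, rep7_9, rep7_10, rep7_11, mul_assoc]

theorem rep7_nJ : rep7 P P.nJ = mW := by
  have h3 := P.three_eq
  have h1 : P.ti (1 : K) = 1 := one_pow _
  have hm : P.ti (-(1 : K)⁻¹) = -1 := by rw [inv_one, P.ti_neg, h1]
  rw [Par.nJ, P.Φ_wEl, H54.Presentation.wEl, Par.xJ, Par.yJ, map_mul, map_mul, map_mul, map_mul,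
    h1, hm, inv_one, rep7_8, rep7_10, rep7_3, rep7_1]
  simp [m8, m10, m3, m1, mW]
  refine ⟨⟨?_, ?_⟩, ?_, ?_, ?_⟩ <;> first | linear_combination h3 | linear_combination -h3

theorem rep7_hp_neg : rep7 P (P.hp (-1)) = mA := by
  haveI : CharP K 3 := P.char
  ext i j
  show ((P.hp (-1) : ↥(chevG2.group K)) : GL chevG2.Idx K).val
    (H37.Isog.goodG2.split (.inl i)) (H37.Isog.goodG2.split (.inl j)) = _
  rw [split_i7, split_i7]
  show (Chevalley.dU _ : GL chevG2.Idx K).val _ _ = _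
  rw [Chevalley.coe_dU, Matrix.diagonal_apply]
  have hinj : i7 i = i7 j ↔ i = j := by revert i j; decide +kernel
  simp only [hinj]
  have hd : (∏ m : Fin chevG2.rank, vec ((-1 : Kˣ) ^ P.e) (-1) m ^
      Chevalley.pe (chevG2.simple m.val) (i7 i)) = if i = 0 ∨ i = 2 ∨ i = 5 then 1 else -1 := by
    show ∏ m : Fin 2, _ = _
    rw [Fin.prod_univ_two, show ((0 : Fin 2) : ℕ) = 0 from rfl, show ((1 : Fin 2) : ℕ) = 1 from rfl,
      simple_ok.1, simple_ok.2, P.odd.neg_one_pow]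
    simp only [vec, show ((0 : Fin 2) : ℕ) = 0 from rfl, show ((1 : Fin 2) : ℕ) = 1 from rfl, if_true,
      show (1 : ℕ) ≠ 0 from one_ne_zero, if_false]
    rw [← zpow_add]
    have h := pe_i7 i
    split_ifs at h ⊢ with hc
    · exact Even.neg_one_zpow (Int.even_iff.2 h)
    · exact Odd.neg_one_zpow (Int.odd_iff.2 h)
  simp only [MonoidHom.coe_mk, OneHom.coe_mk]
  rw [hd]
  fin_cases i <;> fin_cases j <;> simp [mA]

/-- The seven-dimensional representation of the twisted group. -/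
noncomputable def ρ : ↥(twistedG2 K P.e) →* M7 K := (rep7 P).comp P.inc

/-- The trace on seven dimensions. -/
noncomputable def tr7 (g : ↥(twistedG2 K P.e)) : K := (ρ P g).trace

theorem tr7_conj (u g : ↥(twistedG2 K P.e)) : tr7 P (u * g * u⁻¹) = tr7 P g := by
  rw [tr7, tr7, map_mul, Matrix.trace_mul_comm, ← map_mul, ← mul_assoc, inv_mul_cancel, one_mul]

theorem ρ_uT (v : K × K × K) : ρ P (P.uT v) = mP1 v.1 (P.th v.1) v.2.1 *
    mP2 v.2.2 (P.ti v.2.1 + v.1 * P.ti v.1) (P.ti v.2.2 + v.1 ^ 2 * P.ti v.1) :=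
  rep7_N P _ _ _ _ _ _

theorem ρ_wT : ρ P P.wT = mW := rep7_nJ P

theorem ρ_aT : ρ P (P.ft (-1)) = mA := rep7_hp_neg P

theorem tr7_uT (v : K × K × K) : tr7 P (P.uT v) = 1 := by
  rw [tr7, ρ_uT, mP1, mP2]
  simp [Matrix.trace, Fin.sum_univ_seven]
  linear_combination 2 * P.three_eq

theorem tr7_uT_inv (v : K × K × K) : tr7 P (P.uT v * P.ft (-1)) = -1 := by
  rw [tr7, map_mul, ρ_uT, ρ_aT, mP1, mP2, mA]
  simp [Matrix.trace, Fin.sum_univ_seven]

theorem tr7_one : tr7 P (1 : ↥(twistedG2 K P.e)) = 1 := by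
  rw [← P.uT_one, tr7_uT]

/-- The first of the three entries read off by the trace. -/
def e61 (v : K × K × K) : K :=
  -v.2.2 ^ 2 - v.2.1 * (P.ti v.2.1 + v.1 * P.ti v.1)
    + P.th v.1 * (P.ti v.2.2 + v.1 ^ 2 * P.ti v.1) - P.th v.1 * v.2.1 * v.2.2

/-- The second of the three entries read off by the trace. -/
def e52 (v : K × K × K) : K := -v.2.1 ^ 2 + v.1 * v.2.2 + v.1 * P.th v.1 * v.2.1

/-- The third of the three entries read off by the trace. -/
def e43 (v : K × K × K) : K := -P.th v.1 ^ 2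

theorem tr7_big (v : K × K × K) :
    tr7 P (P.wT * P.uT v) = -1 - e61 P v - e52 P v - e43 P v ∧
    tr7 P (P.ft (-1) * P.wT * P.uT v) = -1 + e61 P v - e52 P v + e43 P v := by
  constructor
  · rw [tr7, map_mul, ρ_wT, ρ_uT, mP1, mP2, mW]
    simp [Matrix.trace, Fin.sum_univ_seven, e61, e52, e43]
    ring
  · rw [tr7, map_mul, map_mul, ρ_wT, ρ_aT, ρ_uT, mP1, mP2, mW, mA]
    simp [Matrix.trace, Fin.sum_univ_seven, e61, e52, e43]
    ring

end fin

end Cfsg.Agent.H37.ReeSq
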