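import Cfsg.Agent.H37.ReeSq.Classes
import Cfsg.Agent.H83.ClassConst
import Mathlib.Algebra.Polynomial.Roots

/-!
Products of two conjugates of a regular semisimple element: reality, elements of order three.
-/
set_option autoImplicit false
set_option linter.style.haveILetI false
set_option maxRecDepth 100000

namespace Cfsg.Agent.H37.ReeSq

open Cfsg.Lie Cfsg.Agent.H38.Ree Cfsg.Agent.H37.Twist

/-- A product of two conjugates of `x`. -/
def Cov {G : Type*} [Group G] (x g : G) : Prop := ∃ y z, IsConj x y ∧ IsConj x z ∧ g = y * z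

theorem Cov.conj {G : Type*} [Group G] {x g : G} (h : Cov x g) (u : G) : Cov x (u * g * u⁻¹) := by
  obtain ⟨y, z, hy, hz, rfl⟩ := h
  exact ⟨_, _, hy.trans (isConj_iff.2 ⟨u, rfl⟩), hz.trans (isConj_iff.2 ⟨u, rfl⟩), by group⟩

theorem Cov.conj_iff {G : Type*} [Group G] {x g u : G} : Cov x (u * g * u⁻¹) ↔ Cov x g := by
  refine ⟨fun h => ?_, fun h => h.conj u⟩
  have := h.conj u⁻¹
  rwa [show u⁻¹ * (u * g * u⁻¹) * u⁻¹⁻¹ = g by group] at this

theorem Cov.inv {G : Type*} [Group G] {x g : G} (hx : IsConj x x⁻¹) (h : Cov x g) : Cov x g⁻¹ := by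
  obtain ⟨y, z, hy, hz, rfl⟩ := h
  have hi : ∀ {a : G}, IsConj x a → IsConj x a⁻¹ := fun {a} ha => by
    obtain ⟨u, rfl⟩ := isConj_iff.1 ha
    exact hx.trans (isConj_iff.2 ⟨u, by group⟩)
  exact ⟨_, _, hi hz, hi hy, mul_inv_rev y z⟩

variable {K : Type*} [Field K] [Fintype K] (P : Par K)
include P

theorem ρ_injective : Function.Injective (ρ P) := fun _ _ h => P.gl7_injective (Units.ext h)

theorem wT_sq : P.wT * P.wT = 1 := ρ_injective P (by
  rw [map_mul, ρ_wT, map_one, mW]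
  simp
  ext i j
  fin_cases i <;> fin_cases j <;> rfl)

theorem wT_inv' : P.wT⁻¹ = P.wT := inv_eq_of_mul_eq_one_right (wT_sq P)

theorem sg_sq (ε : Bool) : (sg ε : Kˣ) * sg ε = 1 := by cases ε <;> simp [sg]

theorem sg_inv (ε : Bool) : (sg ε : Kˣ)⁻¹ = sg ε := inv_eq_of_mul_eq_one_right (sg_sq P ε)

theorem wT_comm (ε : Bool) : P.wT * P.ft (sg ε) = P.ft (sg ε) * P.wT := by
  have h := P.wT_inv (sg ε)
  rw [sg_inv P] at h
  exact mul_inv_eq_iff_eq_mul.1 h

theorem uT_mul (v w : K × K × K) : P.uT v * P.uT w = P.uT (v.1 + w.1, v.2.1 - w.1 * P.th v.1 + w.2.1,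
    v.2.2 - w.1 * P.th v.1 ^ 2 - P.th w.1 * (v.2.1 - w.1 * P.th v.1) + w.2.2) :=
  P.inc_inj (by rw [map_mul, P.inc_uT, P.inc_uT, P.inc_uT]; exact P.U1_mul _ _ _ _ _ _)

theorem uT_left_div (a c d c' d' : K) :
    (P.uT (a, c, d))⁻¹ * P.uT (a, c', d') = P.uT (0, c' - c, d' - d) := by
  rw [inv_mul_eq_iff_eq_mul, uT_mul]
  have h : P.th (0 : K) = 0 := P.th_zero
  simp only [h]
  congr 1
  refine Prod.ext ?_ (Prod.ext ?_ ?_) <;> simp <;> ring

theorem uT_zero_inv (c d : K) : (P.uT (0, c, d))⁻¹ = P.uT (0, -c, -d) := by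
  have h := uT_left_div P 0 c d 0 0
  have h0 : P.uT ((0 : K), (0 : K), (0 : K)) = 1 := P.uT_one
  rw [h0, mul_one, zero_sub, zero_sub] at h
  exact h

theorem ft_conj_uT (y : Kˣ) (v : K × K × K) : P.ft y * P.uT v * (P.ft y)⁻¹ =
    P.uT ((P.χ 6 y : K) * v.1, (P.χ 8 y : K) * v.2.1, (P.χ 9 y : K) * v.2.2) :=
  P.inc_inj (by
    rw [map_mul, map_mul, map_inv, P.inc_ft, P.inc_uT, P.inc_uT]
    exact P.hp_conj_U1 _ _ _ _)

theorem el_div (ε : Bool) (v w : K × K × K) :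
    (el P ε v)⁻¹ * el P ε w = (P.uT v)⁻¹ * P.uT w := by
  rw [el, el]; group

theorem el_inv (ε : Bool) (d : K) :
    IsConj (el P ε (0, 0, -d)) (el P ε (0, 0, d))⁻¹ := by
  refine isConj_iff.2 ⟨(P.uT (0, 0, d))⁻¹, ?_⟩
  have e : P.uT (0, 0, -d) = (P.uT (0, 0, d))⁻¹ := by rw [uT_zero_inv, neg_zero]
  rw [el, el, mul_inv_rev, mul_inv_rev, wT_inv' P, ← map_inv, sg_inv P, wT_comm P, e]
  group

theorem aT_conj_el (ε : Bool) (d : K) :
    P.ft (-1) * el P ε (0, 0, d) * (P.ft (-1))⁻¹ = el P ε (0, 0, -d) := by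
  have h9 : ((P.χ 9 (-1) : Kˣ) : K) = -1 := by rw [P.χ9, P.odd.neg_one_pow]; simp
  have h1 : P.ft (-1) * P.ft (sg ε) = P.ft (sg ε) * P.ft (-1) := by
    rw [← map_mul, ← map_mul, mul_comm]
  have h2 : P.ft (-1) * P.wT = P.wT * P.ft (-1) := (wT_comm P true).symm
  have h3 := ft_conj_uT P (-1) (0, 0, d)
  rw [h9, mul_zero, mul_zero, neg_one_mul] at h3
  rw [el, el, ← h3]
  simp only [← mul_assoc]
  rw [h1, mul_assoc (P.ft (sg ε)) (P.ft (-1)), h2]
  simp only [← mul_assoc]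

theorem real (hq : 4 < Nat.card K) {x : ↥(twistedG2 K P.e)} (hx : RSS P x) : IsConj x x⁻¹ := by
  obtain ⟨ε, d, -, h⟩ := exists_conj_el P hq hx
  have hR : IsConj (el P ε (0, 0, d)) (el P ε (0, 0, d))⁻¹ :=
    (isConj_iff.2 ⟨_, aT_conj_el P ε d⟩).trans (el_inv P ε d)
  obtain ⟨u, hu⟩ := isConj_iff.1 h
  refine h.trans (hR.trans (isConj_iff.2 ⟨u⁻¹, ?_⟩))
  rw [← hu]; group

theorem cov_of_pair (hq : 4 < Nat.card K) {x : ↥(twistedG2 K P.e)} (hx : RSS P x) {ε : Bool}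
    {v w : K × K × K} (hv : IsConj x (el P ε v)) (hw : IsConj x (el P ε w)) :
    Cov x ((P.uT v)⁻¹ * P.uT w) := by
  refine ⟨(el P ε v)⁻¹, el P ε w, ?_, hw, (el_div P ε v w).symm⟩
  obtain ⟨u, hu⟩ := isConj_iff.1 hv
  refine (real P hq hx).trans (isConj_iff.2 ⟨u, ?_⟩)
  rw [← hu]; group

theorem cov_Z (hq : 4 < Nat.card K) {x : ↥(twistedG2 K P.e)} (hx : RSS P x) {z : K} (hz : z ≠ 0) :
    Cov x (P.uT (0, 0, z)) := by
  obtain ⟨ε, d, hd, h⟩ := exists_conj_el P hq hx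
  have h' : IsConj x (el P ε (0, 0, -d)) := h.trans (isConj_iff.2 ⟨_, aT_conj_el P ε d⟩)
  have hc := cov_of_pair P hq hx h h'
  rw [uT_left_div, sub_self, show -d - d = d by linear_combination -d * P.three_eq] at hc
  set u : Kˣ := Units.mk0 (z / d) (div_ne_zero hz hd)
  have hχ : P.χ 9 (u ^ (3 * P.e)) = u := by rw [P.χ9, P.units_th_ti]
  have := hc.conj (P.ft (u ^ (3 * P.e)))
  rw [ft_conj_uT, hχ, mul_zero, mul_zero] at this
  simpa [u, div_mul_cancel₀ _ hd] using this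

theorem cov_shift {x : ↥(twistedG2 K P.e)} {c d : K} (hc : c ≠ 0) (h : Cov x (P.uT (0, c, d)))
    (d' : K) : Cov x (P.uT (0, c, d')) := by
  obtain ⟨a, ha⟩ : ∃ a, P.th a = (d' - d) / c := ⟨P.ti ((d' - d) / c), P.th_ti _⟩
  have := h.conj (P.uT (a, 0, 0))
  have e : P.uT (a, 0, 0) * P.uT (0, c, d) = P.uT (0, c, d') * P.uT (a, 0, 0) := by
    rw [uT_mul, uT_mul]
    have h0 : P.th (0 : K) = 0 := P.th_zero
    simp only [h0]
    congr 1
    refine Prod.ext ?_ (Prod.ext ?_ ?_) <;> simp [ha, hc]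
  rwa [e, mul_inv_cancel_right] at this

theorem exists_chi8 (r : Kˣ) : ∃ y, P.χ 8 y = r ^ 2 := by
  refine ⟨r ^ (3 + 3 * P.e), ?_⟩
  rw [P.χ8, inv_mul_eq_iff_eq_mul, ← pow_mul, ← pow_add]
  have h : (3 + 3 * P.e) * P.e + 2 = 3 * P.e + 2 + 3 * P.e ^ 2 := by ring
  rw [h, pow_add r (3 * P.e + 2), P.units_pow_card, ← pow_succ]
  congr 1
  ring

theorem cov_U2 (hq : 4 < Nat.card K) {x : ↥(twistedG2 K P.e)} (hx : RSS P x) {c₀ d₀ : K}
    (hc₀ : c₀ ≠ 0) (h : Cov x (P.uT (0, c₀, d₀))) {c : K} (hc : c ≠ 0) (d : K) :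
    Cov x (P.uT (0, c, d)) := by
  obtain ⟨r, hr⟩ := P.units_dichotomy (Units.mk0 (c / c₀) (div_ne_zero hc hc₀))
  obtain ⟨y, hy⟩ := exists_chi8 P r
  rcases hr with hr | hr
  · have := h.conj (P.ft y)
    rw [ft_conj_uT, hy, ← hr, mul_zero, Units.val_mk0] at this
    simp only [div_mul_cancel₀ _ hc₀] at this
    exact cov_shift P hc this d
  · have := (h.inv (real P hq hx)).conj (P.ft y)
    rw [uT_zero_inv, ft_conj_uT, mul_zero] at this
    have hv := congrArg Units.val hr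
    rw [Units.val_mk0, Units.val_neg, ← hy] at hv
    have e : (P.χ 8 y : K) * -c₀ = c := by
      rw [mul_neg, ← neg_mul, ← hv, div_mul_cancel₀ _ hc₀]
    simp only [e] at this
    exact cov_shift P hc this d

theorem exists_el_of_not_BT {g : ↥(twistedG2 K P.e)} (hg : g ∉ P.BT) :
    ∃ u ∈ P.UT, ∃ (r : Kˣ) (ε : Bool) (v : K × K × K),
      g = u * P.ft r * el P ε v * (u * P.ft r)⁻¹ := by
  have hwT : P.wT ∉ P.BT := fun h => by
    obtain ⟨u, hu, k, hk, e⟩ := P.mem_BT.1 h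
    exact P.wEl_not_U one_ne_zero hu hk ((P.Φ_wEl 1).symm.trans e)
  obtain ⟨u, hu, eu⟩ := P.coset_form hg
  obtain ⟨u', hu', eu'⟩ := P.coset_form hwT
  have hb := QuotientGroup.eq.1 eu
  have hb' := QuotientGroup.eq.1 eu'
  obtain ⟨w, hw, y, hy⟩ := P.BT_form.1 (mul_mem hb' (inv_mem hb))
  have hg' : g = u * u'⁻¹ * P.wT * (w * P.ft y) := by rw [← hy]; group
  obtain ⟨r, hr⟩ := P.units_dichotomy y⁻¹
  obtain ⟨ε, hε⟩ : ∃ ε, y⁻¹ = sg ε * r ^ 2 := by
    rcases hr with hr | hr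
    · exact ⟨false, by rw [hr]; simp [sg]⟩
    · exact ⟨true, by rw [hr]; simp [sg]⟩
  set v' := (P.ft y)⁻¹ * w * P.ft y with hv'
  have hv'm : v' ∈ P.UT := by
    have := P.ft_conj_UT y⁻¹ hw
    rwa [map_inv, inv_inv] at this
  set u1 := u * u'⁻¹ with hu1
  have hu1m : u1 ∈ P.UT := mul_mem (P.mem_UT.2 hu) (inv_mem (P.mem_UT.2 hu'))
  obtain ⟨v, hv⟩ := P.exists_uT (u := (P.ft r)⁻¹ * (v' * u1) * P.ft r) (by
    have := P.ft_conj_UT r⁻¹ (mul_mem hv'm hu1m)
    rwa [map_inv, inv_inv] at this)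
  refine ⟨u1, hu1m, r, ε, v, ?_⟩
  have h1 : P.wT * P.ft y = P.ft y⁻¹ * P.wT := mul_inv_eq_iff_eq_mul.1 (P.wT_inv y)
  have h2 : P.wT * (P.ft r)⁻¹ = P.ft r * P.wT := by
    have h := mul_inv_eq_iff_eq_mul.1 (P.wT_inv r⁻¹)
    rwa [map_inv, inv_inv] at h
  have h3 : P.ft r * P.ft (sg ε) * P.ft r = P.ft y⁻¹ := by
    rw [← map_mul, ← map_mul, hε]; congr 1; rw [pow_two, mul_comm r (sg ε), mul_assoc]
  rw [hg', el, hv]
  calc u1 * P.wT * (w * P.ft y) = u1 * (P.wT * P.ft y) * v' := by rw [hv']; group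
    _ = u1 * (P.ft r * P.ft (sg ε) * (P.wT * (P.ft r)⁻¹)) * v' := by
      rw [h1, ← h3, h2]; group
    _ = _ := by group

/-- The trace along a line in the last coordinate has few preimages of a value. -/
theorem card_line_le (hq : 4 < Nat.card K) (ε : Bool) (a c k : K) :
    {d : K | tr7 P (el P ε (a, c, d)) = k}.ncard ≤ 3 * P.e := by
  classical
  obtain ⟨s, hs, hs0⟩ : ∃ s : K, (∀ t : K, (if ε then t else -t) = s * t) ∧ s ≠ 0 := by
    cases ε
    · exact ⟨-1, fun t => by simp, neg_ne_zero.2 one_ne_zero⟩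
    · exact ⟨1, fun t => by simp, one_ne_zero⟩
  set b := P.th a with hb
  have he : 3 ≤ P.e := by
    have h27 := P.q_ge hq
    rw [P.card_nat] at h27
    nlinarith
  set c0 : K := -1 + s * (-c * (P.ti c + a * P.ti a) + b * (a ^ 2 * P.ti a) - b ^ 2)
    + c ^ 2 - a * b * c - k with hc0
  open Polynomial in
  set p : Polynomial K := C (-s) * X ^ 2 + C (s * b) * X ^ (3 * P.e)
    + C (-(s * b * c) - a) * X + C c0 with hp
  have hne : p ≠ 0 := by
    intro h
    by_cases ha : a = 0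
    · have hb0 : b = 0 := by rw [hb, ha]; exact P.th_zero
      have := congrArg (fun f : Polynomial K => f.coeff 2) h
      simp [hp, hb0, Polynomial.coeff_C] at this
      exact hs0 this
    · have hb0 : b ≠ 0 := pow_ne_zero _ ha
      have := congrArg (fun f : Polynomial K => f.coeff (3 * P.e)) h
      simp only [hp, Polynomial.coeff_add, Polynomial.coeff_C_mul_X_pow, Polynomial.coeff_C_mul_X,
        Polynomial.coeff_C, Polynomial.coeff_zero, show 3 * P.e ≠ 2 by omega,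
        show 3 * P.e ≠ 1 by omega, show 3 * P.e ≠ 0 by omega, if_false, if_true, zero_add,
        add_zero] at this
      exact mul_ne_zero hs0 hb0 this
  have hdeg : p.natDegree ≤ 3 * P.e := by
    rw [hp]
    compute_degree
    all_goals omega
  refine le_trans ?_ ((p.card_roots').trans hdeg)
  refine le_trans ?_ (Multiset.toFinset_card_le _)
  rw [← Set.ncard_coe_finset]
  refine Set.ncard_le_ncard fun d hd => ?_
  rw [Finset.mem_coe, Multiset.mem_toFinset, Polynomial.mem_roots hne, Polynomial.IsRoot.def]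
  have hd' : tr7 P (el P ε (a, c, d)) = k := hd
  have h1 : (if ε then e61 P (a, c, d) + e43 P (a, c, d)
      else -(e61 P (a, c, d) + e43 P (a, c, d))) = s * (e61 P (a, c, d) + e43 P (a, c, d)) := hs _
  rw [tr7_el, h1, e61, e52, e43] at hd'
  simp only [hp, Polynomial.eval_add, Polynomial.eval_mul, Polynomial.eval_C, Polynomial.eval_pow,
    Polynomial.eval_X, hc0]
  linear_combination hd'

theorem exists_pair (hq : 4 < Nat.card K) {x : ↥(twistedG2 K P.e)} (hx : RSS P x) :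
    ∃ (ε : Bool) (a c d c' d' : K), c ≠ c' ∧
      IsConj x (el P ε (a, c, d)) ∧ IsConj x (el P ε (a, c', d')) := by
  classical
  haveI : Finite ↥(twistedG2 K P.e) := Subtype.finite
  haveI := Fintype.ofFinite ↥(twistedG2 K P.e)
  by_contra hcon
  push Not at hcon
  set k := tr7 P x
  let S : Finset (Bool × K × K × K) := {p | IsConj x (el P p.1 p.2)}
  have hS : S.card ≤ 3 * P.e * (2 * Nat.card K) := by
    refine le_trans (Finset.card_le_mul_card_image (f := fun p => (p.1, p.2.1)) S (3 * P.e)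
      fun b hb => ?_) (Nat.mul_le_mul_left _ ?_)
    · obtain ⟨⟨ε, a, c, d⟩, hp, rfl⟩ := Finset.mem_image.1 hb
      have hp' : IsConj x (el P ε (a, c, d)) := (Finset.mem_filter.1 hp).2
      refine le_trans ?_ (card_line_le P hq ε a c k)
      rw [← Set.ncard_coe_finset]
      refine Set.ncard_le_ncard_of_injOn (fun p => p.2.2.2) ?_ ?_
      · rintro ⟨ε', a', c', d'⟩ h
        obtain ⟨hS', e⟩ := Finset.mem_filter.1 h
        obtain ⟨rfl, rfl⟩ := Prod.mk.inj e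
        have h' : IsConj x (el P ε' (a', c', d')) := (Finset.mem_filter.1 hS').2
        obtain rfl : c = c' := by_contra fun hne => hcon _ _ _ _ _ _ hne hp' h'
        obtain ⟨u, hu⟩ := isConj_iff.1 h'
        show tr7 P (el P ε' (a', c, d')) = k
        rw [← hu, tr7_conj]
      · rintro ⟨ε', a', c', d'⟩ h ⟨ε'', a'', c'', d''⟩ h' (e : d' = d'')
        obtain ⟨hS', e1⟩ := Finset.mem_filter.1 h
        obtain ⟨hS'', e2⟩ := Finset.mem_filter.1 h'
        obtain ⟨rfl, rfl⟩ := Prod.mk.inj e1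
        obtain ⟨rfl, rfl⟩ := Prod.mk.inj e2
        have h1 : IsConj x (el P ε'' (a'', c', d')) := (Finset.mem_filter.1 hS').2
        have h2 : IsConj x (el P ε'' (a'', c'', d'')) := (Finset.mem_filter.1 hS'').2
        obtain rfl : c' = c'' := by_contra fun hne => hcon _ _ _ _ _ _ hne h1 h2
        rw [e]
    · refine (Finset.card_le_univ _).trans ?_
      rw [Fintype.card_prod, Fintype.card_bool, Nat.card_eq_fintype_card]
  set f : ↥P.UT × Kˣ × S → ↥(twistedG2 K P.e) := fun p =>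
    (p.1 : ↥(twistedG2 K P.e)) * P.ft p.2.1 * el P p.2.2.1.1 p.2.2.1.2 *
      ((p.1 : ↥(twistedG2 K P.e)) * P.ft p.2.1)⁻¹
  have hsub : {g | IsConj x g} ⊆ (P.BT : Set ↥(twistedG2 K P.e)) ∪ Set.range f := by
    intro g hg
    by_cases hB : g ∈ P.BT
    · exact Or.inl hB
    obtain ⟨u, hu, r, ε, v, e⟩ := exists_el_of_not_BT P hB
    refine Or.inr ⟨(⟨u, hu⟩, r, ⟨(ε, v), Finset.mem_filter.2 ⟨Finset.mem_univ _, ?_⟩⟩), e.symm⟩
    exact hg.trans (isConj_iff.2 ⟨(u * P.ft r)⁻¹, by rw [e]; group⟩)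
  have h1 : (Set.range f).ncard ≤ Nat.card K ^ 3 * ((Nat.card K - 1) * S.card) := by
    rw [← Nat.card_coe_set_eq]
    refine (Finite.card_range_le f).trans ?_
    rw [Nat.card_prod, Nat.card_prod, P.card_UT, P.card_units, Nat.card_eq_fintype_card (α := S),
      Fintype.card_coe]
  have h2 := ((Set.ncard_le_ncard hsub).trans (Set.ncard_union_le _ _)).trans
    (Nat.add_le_add (le_of_eq (Nat.card_coe_set_eq _).symm) h1)
  have h3 : Nat.card ↥(P.BT : Set ↥(twistedG2 K P.e)) = Nat.card K ^ 3 * (Nat.card K - 1) :=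
    P.card_BT
  have h4 : ({g | IsConj x g} : Set ↥(twistedG2 K P.e)).ncard *
      Nat.card ↥(Subgroup.centralizer {x}) = Nat.card ↥(twistedG2 K P.e) := by
    rw [← (Subgroup.centralizer {x}).index_mul_card, ← H83.classSize_eq_index x]
    congr 1
    rw [← Set.ncard_coe_finset, Finset.coe_filter]
    simp
  rw [h3] at h2
  rw [P.card_T] at h4
  have hc := card_cent_RSS P hq hx
  have h27 := P.q_ge hq
  have hcard := P.card_nat
  obtain ⟨j, hj⟩ := P.odd
  set q := Nat.card K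
  have hbig : ({g | IsConj x g} : Set ↥(twistedG2 K P.e)).ncard ≤
      q ^ 3 * (q - 1) * (1 + 3 * P.e * (2 * q)) := by
    refine h2.trans ?_
    rw [mul_add, mul_one, mul_assoc]
    exact Nat.add_le_add le_rfl (Nat.mul_le_mul_left _ (Nat.mul_le_mul_left _ hS))
  have h5 : q ^ 3 * (q - 1) * (1 + q ^ 3) ≤
      q ^ 3 * (q - 1) * ((1 + 3 * P.e * (2 * q)) * (q + 3 * P.e + 1)) := by
    rw [← h4, ← mul_assoc _ (1 + 3 * P.e * (2 * q)) _]
    exact Nat.mul_le_mul hbig hc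
  have h6 := Nat.le_of_mul_le_mul_left h5 (Nat.mul_pos (pow_pos (by omega) 3) (by omega))
  have hlt : (1 + 3 * P.e * (2 * q)) * (q + 3 * P.e + 1) < 1 + q ^ 3 := by
    rw [hcard]
    rcases Nat.lt_or_ge P.e 5 with h | h
    · have : P.e = 3 := by
        rw [hcard] at h27
        have : 3 ≤ P.e := by nlinarith
        omega
      rw [this]; norm_num
    · have h7 : 25 ≤ P.e ^ 2 := by nlinarith
      have h8 : 1 + 3 * P.e * (2 * (3 * P.e ^ 2)) ≤ 19 * P.e ^ 3 := by nlinarith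
      have h9 : 3 * P.e ^ 2 + 3 * P.e + 1 ≤ 4 * P.e ^ 2 := by nlinarith
      calc _ ≤ 19 * P.e ^ 3 * (4 * P.e ^ 2) := Nat.mul_le_mul h8 h9
        _ < 27 * P.e ^ 6 := by nlinarith [pow_pos (show 0 < P.e by omega) 5]
        _ ≤ _ := le_add_left (le_of_eq (by ring))
  omega

theorem cov_order_three (hq : 4 < Nat.card K) {x : ↥(twistedG2 K P.e)} (hx : RSS P x) {c d : K}
    (h : c ≠ 0 ∨ d ≠ 0) : Cov x (P.uT (0, c, d)) := by
  by_cases hc : c = 0
  · subst hc
    exact cov_Z P hq hx (h.resolve_left fun h => h rfl)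
  · obtain ⟨ε, a, c₁, d₁, c₂, d₂, hne, h1, h2⟩ := exists_pair P hq hx
    have := cov_of_pair P hq hx h1 h2
    rw [uT_left_div] at this
    exact cov_U2 P hq hx (sub_ne_zero.2 hne.symm) this hc d

end Cfsg.Agent.H37.ReeSq
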